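import Cfsg.Agent.Lib.Recog.SelfCentThree.Basic
import Cfsg.Agent.Lib.CharDegree.Basic
import Cfsg.Agent.Lib.CharDegree.Counting
import Cfsg.Agent.Lib.Char.Complete
import Cfsg.Agent.Lib.Perm.RationalValue

/-!
# Characters of a simple group with a self-centralizing element of order three

Exactly three irreducible characters are non-zero at `x`, with values `±1`. The class algebra gives
one class of involutions and `|G| < 9 · #{y ~ x : y⁻¹ x ~ x}`.
-/

set_option autoImplicit false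
set_option linter.all false

namespace CfsgLib.Recog.SelfCentThree

open Subgroup CfsgLib.Char
open scoped Classical ComplexConjugate

variable {G : Type*} [Group G] [Finite G] {x t : G}

theorem Setup.isConj_inv (hx : Setup x) (ht : t * x * t⁻¹ = x⁻¹) : IsConj x x⁻¹ :=
  isConj_iff.2 ⟨t, ht⟩

theorem Setup.value_int (hx : Setup x) (ht : t * x * t⁻¹ = x⁻¹) (χ : Cfsg.IrrCharacter G) :
    ∃ i : ℤ, (χ : G → ℂ) x = i := by
  haveI := Fintype.ofFinite G
  refine CfsgLib.Perm.RationalValue.exists_eq_int (IsIrr.isCharacter χ.2) x fun m hm => ?_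
  have hm3 : ¬ 3 ∣ m := fun h => by
    have := Nat.eq_one_of_dvd_coprimes hm h hx.three_dvd
    omega
  have hpow : x ^ m = x ^ (m % 3) := by rw [← hx.order, pow_mod_orderOf]
  rw [hpow]
  rcases (by omega : m % 3 = 1 ∨ m % 3 = 2) with e | e <;> rw [e]
  · rw [pow_one]
  · rw [pow_two, ← hx.inv_eq]
    exact (CfsgLib.CharDegree.apply_eq_of_isConj χ (hx.isConj_inv ht)).symm

/-- The three characters that do not vanish at `x`, with signs. -/
theorem Setup.exists_data [Fintype (Cfsg.IrrCharacter G)] (hx : Setup x) (ht : t * x * t⁻¹ = x⁻¹) :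
    ∃ (χ ψ : Cfsg.IrrCharacter G) (ε δ : ℤ), χ ≠ ψ ∧ χ ≠ trivChar G ∧ ψ ≠ trivChar G ∧
      (ε = 1 ∨ ε = -1) ∧ (δ = 1 ∨ δ = -1) ∧ (χ : G → ℂ) x = ε ∧ (ψ : G → ℂ) x = δ ∧
      ∀ φ : Cfsg.IrrCharacter G, φ ≠ trivChar G → φ ≠ χ → φ ≠ ψ → (φ : G → ℂ) x = 0 := by
  choose v hv using fun φ : Cfsg.IrrCharacter G => hx.value_int ht φ
  have h3 : ∑ φ : Cfsg.IrrCharacter G, v φ * v φ = 3 := by
    have h := column_orthogonality x x
    rw [if_pos (IsConj.refl x), hx.card_centralizer] at h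
    have h' : ((∑ φ : Cfsg.IrrCharacter G, v φ * v φ : ℤ) : ℂ) = (3 : ℤ) := by
      push_cast
      rw [← show (((3 : ℕ) : ℂ)) = 3 by norm_num, ← h]
      exact Finset.sum_congr rfl fun φ _ => by rw [hv φ, map_intCast]
    exact_mod_cast h'
  have h1 : v (trivChar G) = 1 := by
    have := hv (trivChar G)
    rw [trivChar_apply] at this
    exact_mod_cast this.symm
  have hsq : ∀ φ, v φ ≠ 0 → v φ * v φ = 1 := by
    intro φ hφ
    have hlt : v φ * v φ ≤ 3 :=
      h3 ▸ Finset.single_le_sum (fun φ _ => mul_self_nonneg (v φ)) (Finset.mem_univ φ)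
    have hlo : -2 < v φ := by nlinarith
    have hhi : v φ < 2 := by nlinarith
    interval_cases (v φ) <;> simp_all
  set T := Finset.univ.filter fun φ : Cfsg.IrrCharacter G => v φ ≠ 0 with hT
  have hTcard : (T.card : ℤ) = 3 := by
    rw [← h3, ← Finset.sum_filter_ne_zero, Finset.card_eq_sum_ones, Nat.cast_sum]
    refine Finset.sum_congr ?_ fun φ hφ => by
      rw [Finset.mem_filter] at hφ
      rw [hsq φ (fun e => hφ.2 (by rw [e, mul_zero]))]; rfl
    rw [hT]
    exact Finset.filter_congr fun φ _ => by simp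
  have htT : trivChar G ∈ T := by simp [hT, h1]
  have h2 : (T.erase (trivChar G)).card = 2 := by rw [Finset.card_erase_of_mem htT]; omega
  obtain ⟨χ, ψ, hne, heq⟩ := Finset.card_eq_two.1 h2
  have hχ : χ ∈ T.erase (trivChar G) := by simp [heq]
  have hψ : ψ ∈ T.erase (trivChar G) := by simp [heq]
  rw [Finset.mem_erase, hT, Finset.mem_filter] at hχ hψ
  refine ⟨χ, ψ, v χ, v ψ, hne, hχ.1, hψ.1, ?_, ?_, hv χ, hv ψ, fun φ h1' h2' h3' => ?_⟩
  · exact mul_self_eq_one_iff.1 (hsq χ hχ.2.2)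
  · exact mul_self_eq_one_iff.1 (hsq ψ hψ.2.2)
  · by_contra hne0
    have : φ ∈ T.erase (trivChar G) := by
      rw [Finset.mem_erase, hT, Finset.mem_filter]
      exact ⟨h1', Finset.mem_univ _, fun e => hne0 (by rw [hv φ, e, Int.cast_zero])⟩
    rw [heq] at this
    simp [h2', h3'] at this

/-- The fibres of the structure constant count. -/
theorem card_conjugators (x y : G) (h : IsConj x y) :
    Nat.card {a : G // a * x * a⁻¹ = y} = Nat.card (centralizer ({x} : Set G)) := by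
  obtain ⟨c, rfl⟩ := isConj_iff.1 h
  refine Nat.card_congr
    { toFun := fun a => ⟨c⁻¹ * a.1, mem_centralizer_singleton_iff.2 ?_⟩
      invFun := fun b => ⟨c * b.1, ?_⟩
      left_inv := fun a => Subtype.ext (by simp)
      right_inv := fun b => Subtype.ext (by simp) }
  · have := congrArg (fun g => c⁻¹ * g * a.1) a.2
    simpa [mul_assoc] using this
  · calc c * b.1 * x * (c * b.1)⁻¹ = c * (b.1 * x) * b.1⁻¹ * c⁻¹ := by group
      _ = c * x * c⁻¹ := by rw [mem_centralizer_singleton_iff.1 b.2]; group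

theorem Setup.card_triangle (hx : Setup x) :
    Nat.card {p : G × G // p.1 * x * p.1⁻¹ * (p.2 * x * p.2⁻¹ * x⁻¹) = 1} =
      9 * Nat.card {y : G // IsConj x y ∧ IsConj x (y⁻¹ * x)} := by
  haveI := Fintype.ofFinite G
  let e : {p : G × G // p.1 * x * p.1⁻¹ * (p.2 * x * p.2⁻¹ * x⁻¹) = 1} ≃
      Σ y : {y : G // IsConj x y ∧ IsConj x (y⁻¹ * x)},
        {a : G // a * x * a⁻¹ = y.1} × {b : G // b * x * b⁻¹ = y.1⁻¹ * x} :=
    { toFun := fun p => by
        have hb : p.1.2 * x * p.1.2⁻¹ = (p.1.1 * x * p.1.1⁻¹)⁻¹ * x :=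
          mul_inv_eq_iff_eq_mul.1 (mul_eq_one_iff_eq_inv'.1 p.2)
        exact ⟨⟨p.1.1 * x * p.1.1⁻¹, isConj_iff.2 ⟨_, rfl⟩, isConj_iff.2 ⟨_, hb⟩⟩,
          ⟨p.1.1, rfl⟩, ⟨p.1.2, hb⟩⟩
      invFun := fun q => ⟨(q.2.1.1, q.2.2.1), by
        show q.2.1.1 * x * q.2.1.1⁻¹ * (q.2.2.1 * x * q.2.2.1⁻¹ * x⁻¹) = 1
        rw [q.2.1.2, q.2.2.2]; group⟩
      left_inv := fun p => rfl
      right_inv := fun q => by
        rcases q with ⟨⟨y, hy⟩, ⟨a, ha⟩, ⟨b, hb⟩⟩
        obtain rfl : a * x * a⁻¹ = y := ha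
        rfl }
  rw [Nat.card_congr e, Nat.card_sigma]
  rw [Finset.sum_congr rfl (g := fun _ => 9) fun y _ => by
    rw [Nat.card_prod, card_conjugators x _ y.2.1, card_conjugators x _ y.2.2, hx.card_centralizer]]
  rw [Finset.sum_const, smul_eq_mul, Finset.card_univ, Nat.card_eq_fintype_card, mul_comm]

/-- One class of involutions, and the bound on the group order. -/
theorem char_facts [IsSimpleGroup G] (hna : ¬ IsMulCommutative G) (hx : Setup x)
    (ht : t * x * t⁻¹ = x⁻¹) :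
    (∀ u : G, u * u = 1 → u ≠ 1 → IsConj t u) ∧
      Nat.card G < 9 * Nat.card {y : G // IsConj x y ∧ IsConj x (y⁻¹ * x)} := by
  haveI := Fintype.ofFinite G
  haveI := Fintype.ofFinite (Cfsg.IrrCharacter G)
  obtain ⟨χ, ψ, ε, δ, hne, hχ1, hψ1, hε, hδ, hχx, hψx, hzero⟩ := hx.exists_data ht
  have hsplit : ∀ F : Cfsg.IrrCharacter G → ℂ,
      (∀ φ, φ ≠ trivChar G → φ ≠ χ → φ ≠ ψ → F φ = 0) → ∑ φ, F φ = F (trivChar G) + (F χ + F ψ) := by
    intro F hF
    rw [← Finset.sum_subset (Finset.subset_univ ({trivChar G, χ, ψ} : Finset (Cfsg.IrrCharacter G)))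
      (fun φ _ hφ => by simp only [Finset.mem_insert, Finset.mem_singleton, not_or] at hφ
                        exact hF φ hφ.1 hφ.2.1 hφ.2.2),
      Finset.sum_insert (by simp [Ne.symm hχ1, Ne.symm hψ1]), Finset.sum_pair hne]
  -- signed functions
  have horth : ∀ g : G, ¬ IsConj g x →
      1 + (ε * (χ : G → ℂ) g + δ * (ψ : G → ℂ) g) = 0 := by
    intro g hg
    have h := column_orthogonality g x
    rw [if_neg hg, hsplit _ (fun φ h1 h2 h3 => by rw [hzero φ h1 h2 h3, map_zero, mul_zero]), hχx, hψx,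
      map_intCast, map_intCast, trivChar_apply, trivChar_apply, map_one, mul_one] at h
    linear_combination h
  obtain ⟨d, hd0, hd⟩ := IsIrr.exists_degree χ.2
  obtain ⟨d', hd'0, hd'⟩ := IsIrr.exists_degree ψ.2
  set α : ℤ := ε * d with hα
  have h1x : ¬ IsConj (1 : G) x := fun h => hx.ne_one (isConj_one_right.1 h)
  have hdeg : (δ : ℤ) * d' = -(1 + α) := by
    have h := horth 1 h1x
    rw [hd, hd'] at h
    have h' : ((δ * d' : ℤ) : ℂ) = ((-(1 + α) : ℤ) : ℂ) := by
      push_cast [hα]; linear_combination h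
    exact_mod_cast h'
  have hα0 : α ≠ 0 := by
    rcases hε with e | e <;> rw [hα, e] <;> omega
  have hα1 : 1 + α ≠ 0 := by
    intro e
    rw [e, neg_zero] at hdeg
    rcases hδ with e' | e' <;> rw [e'] at hdeg <;> omega
  have hα0' : (α : ℂ) ≠ 0 := by exact_mod_cast hα0
  have hα1' : (1 : ℂ) + α ≠ 0 := by exact_mod_cast hα1
  have hεC : (ε : ℂ) * ε = 1 := by rcases hε with e | e <;> rw [e] <;> norm_num
  have hδC : (δ : ℂ) * δ = 1 := by rcases hδ with e | e <;> rw [e] <;> norm_num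
  have hdC : (d : ℂ) = ε * α := by
    rw [hα]; push_cast; linear_combination (-(d : ℂ)) * hεC
  have hd'C : (d' : ℂ) = δ * -(1 + α) := by
    have h := congrArg (fun z : ℤ => (z : ℂ)) hdeg
    push_cast at h
    linear_combination (δ : ℂ) * h - (d' : ℂ) * hδC
  have hxinv : ∀ φ : Cfsg.IrrCharacter G, (φ : G → ℂ) x⁻¹ = (φ : G → ℂ) x := fun φ =>
    (CfsgLib.CharDegree.apply_eq_of_isConj φ (hx.isConj_inv ht)).symm
  -- structure sums
  have hS : ∀ a b : G, ∑ φ : Cfsg.IrrCharacter G,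
      (φ : G → ℂ) a * (φ : G → ℂ) b * (φ : G → ℂ) x⁻¹ / (φ : G → ℂ) 1 =
      1 + (ε * (χ : G → ℂ) a) * (ε * (χ : G → ℂ) b) / α +
        (δ * (ψ : G → ℂ) a) * (δ * (ψ : G → ℂ) b) / (-(1 + α)) := by
    intro a b
    rw [hsplit _ (fun φ h1 h2 h3 => by rw [hxinv, hzero φ h1 h2 h3, mul_zero, zero_div])]
    simp only [hxinv, hχx, hψx, hd, hd', trivChar_apply, mul_one, div_one]
    rw [hdC, hd'C]
    have hε0 : (ε : ℂ) ≠ 0 := by rcases hε with e | e <;> rw [e] <;> norm_num
    have hδ0 : (δ : ℂ) ≠ 0 := by rcases hδ with e | e <;> rw [e] <;> norm_num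
    have e1 : (χ : G → ℂ) a * (χ : G → ℂ) b * ε / (ε * α) =
        (ε * (χ : G → ℂ) a) * (ε * (χ : G → ℂ) b) / α := by
      rw [div_eq_div_iff (mul_ne_zero hε0 hα0') hα0']
      linear_combination (-((χ : G → ℂ) a * (χ : G → ℂ) b * ε * α)) * hεC
    have e2 : (ψ : G → ℂ) a * (ψ : G → ℂ) b * δ / (δ * -(1 + α)) =
        (δ * (ψ : G → ℂ) a) * (δ * (ψ : G → ℂ) b) / (-(1 + α)) := by
      rw [div_eq_div_iff (mul_ne_zero hδ0 (neg_ne_zero.2 hα1')) (neg_ne_zero.2 hα1')]
      linear_combination (-((ψ : G → ℂ) a * (ψ : G → ℂ) b * δ * -(1 + α))) * hδC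
    rw [e1, e2, add_assoc]
  refine ⟨fun u hu hu1 => ?_, ?_⟩
  · by_contra hcon
    have hux : ∀ w : G, w * w = 1 → ¬ IsConj w x := fun w hw hwx => by
      obtain ⟨c, hc⟩ := isConj_iff.1 hwx
      refine hx.sq_ne ?_
      rw [← hc]
      calc c * w * c⁻¹ * (c * w * c⁻¹) = c * (w * w) * c⁻¹ := by group
        _ = 1 := by rw [hw]; group
    have ht2 := hx.sq_eq_one ht
    set s := (ε : ℂ) * (χ : G → ℂ) t with hs
    set s' := (ε : ℂ) * (χ : G → ℂ) u with hs'
    have hht : (δ : ℂ) * (ψ : G → ℂ) t = -(1 + s) := by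
      have := horth t (hux t ht2); linear_combination this
    have hhu : (δ : ℂ) * (ψ : G → ℂ) u = -(1 + s') := by
      have := horth u (hux u hu); linear_combination this
    have hne_tt : (α : ℂ) - s ≠ 0 := by
      intro h0
      have h := CfsgLib.CharDegree.sum_three t t x⁻¹
      rw [hS, hht, ← hs, show s = (α : ℂ) by linear_combination -h0] at h
      have hz : (1 : ℂ) + α * α / α + -(1 + (α : ℂ)) * -(1 + α) / -(1 + α) = 0 := by
        field_simp
        ring
      rw [hz, mul_zero, eq_comm, Nat.cast_eq_zero, Finite.card_eq_zero_iff] at h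
      refine h.false ⟨(1, x), ?_⟩
      show 1 * t * 1⁻¹ * (x * t * x⁻¹ * x⁻¹) = 1
      have e : t * x = x⁻¹ * t := by rw [← ht]; group
      calc 1 * t * 1⁻¹ * (x * t * x⁻¹ * x⁻¹) = (t * x) * (t * (x * x)⁻¹) := by group
        _ = x⁻¹ * (t * t) * (x * x)⁻¹ := by rw [e]; group
        _ = (x * x * x)⁻¹ := by rw [ht2]; group
        _ = 1 := by rw [hx.cube, inv_one]
    have hzero' : Nat.card {p : G × G // p.1 * t * p.1⁻¹ * (p.2 * u * p.2⁻¹ * x⁻¹) = 1} = 0 := by
      rw [Finite.card_eq_zero_iff]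
      refine ⟨fun ⟨⟨a, b⟩, hab⟩ => hcon ?_⟩
      simp only at hab
      set u₁ := a * t * a⁻¹ with hu₁
      set u₂ := b * u * b⁻¹ with hu₂
      have hu₁2 : u₁ * u₁ = 1 := by
        rw [hu₁]
        calc a * t * a⁻¹ * (a * t * a⁻¹) = a * (t * t) * a⁻¹ := by group
          _ = 1 := by rw [ht2]; group
      have hu₂2 : u₂ * u₂ = 1 := by
        rw [hu₂]
        calc b * u * b⁻¹ * (b * u * b⁻¹) = b * (u * u) * b⁻¹ := by group
          _ = 1 := by rw [hu]; group
      have hx12 : x = u₁ * u₂ := by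
        rw [← mul_assoc] at hab
        rw [← inv_inv x]; exact (mul_eq_one_iff_eq_inv.1 hab).symm
      have hinv : u₂ * x * u₂⁻¹ = x⁻¹ := by
        rw [hx12]
        calc u₂ * (u₁ * u₂) * u₂⁻¹ = u₂ * u₁ := by group
          _ = u₂⁻¹ * u₁⁻¹ := by rw [inv_eq_of_mul_eq_one_right hu₁2, inv_eq_of_mul_eq_one_right hu₂2]
          _ = (u₁ * u₂)⁻¹ := by group
      have hconj : IsConj t u₂ := by
        rcases hx.normalizer_cases ht (Or.inr hinv) with h | ⟨k, hk, hk2⟩
        · exfalso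
          have h2 : u₂ * x = x * u₂ := by
            obtain ⟨n, hn⟩ := mem_zpowers_iff.1 h
            rw [← hn]
            exact (Commute.self_zpow x n).eq.symm
          refine hx.inv_ne ?_
          rw [← hinv, h2]; group
        · have e : t * x = x⁻¹ * t := by rw [← ht]; group
          rcases hx.mem_iff.1 hk with e' | e' | e'
          · rw [hk2, e', mul_one]
          · refine isConj_iff.2 ⟨x, ?_⟩
            rw [hk2, e', e]
            calc x * t * x⁻¹ = x * (t * x⁻¹) := by group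
              _ = x * (x * (x⁻¹ * t) * x⁻¹) := by group
              _ = x * (x * (t * x) * x⁻¹) := by rw [e]
              _ = x * x * t := by group
              _ = x⁻¹ * t := by rw [← hx.inv_eq]
          · refine isConj_iff.2 ⟨x⁻¹, ?_⟩
            rw [hk2, e', ← hx.inv_eq]
            calc x⁻¹ * t * x⁻¹⁻¹ = (x⁻¹ * t) * x := by group
              _ = t * (x * x) := by rw [← e]; group
              _ = t * x⁻¹ := by rw [← hx.inv_eq]
      exact hconj.trans (isConj_iff.2 ⟨b⁻¹, by rw [hu₂]; group⟩)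
    have h := CfsgLib.CharDegree.sum_three t u x⁻¹
    rw [hzero', Nat.cast_zero, mul_eq_zero, or_iff_right (Nat.cast_ne_zero.2 Nat.card_pos.ne'), hS,
      hht, hhu, ← hs, ← hs'] at h
    have hprod : ((α : ℂ) - s) * (α - s') = 0 := by
      have e : (1 : ℂ) + s * s' / α + -(1 + s) * -(1 + s') / -(1 + α) =
          ((α : ℂ) - s) * (α - s') / (α * (1 + α)) := by
        field_simp
        ring
      rw [e, div_eq_zero_iff, or_iff_left (mul_ne_zero hα0' hα1')] at h
      exact h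
    have hs'α : s' = (α : ℂ) := (sub_eq_zero.1 ((mul_eq_zero.1 hprod).resolve_left hne_tt)).symm
    have hval : (χ : G → ℂ) u = (χ : G → ℂ) 1 := by
      rw [hd, hdC, ← hs'α, hs', ← mul_assoc, hεC, one_mul]
    have hker : CfsgLib.CharDegree.kerSubgroup χ = ⊥ := by
      haveI := CfsgLib.CharDegree.kerSubgroup_normal χ
      refine (CfsgLib.CharDegree.kerSubgroup_normal χ).eq_bot_or_eq_top.resolve_right fun htop => ?_
      have hall : ∀ g, (χ : G → ℂ) g = (χ : G → ℂ) 1 := fun g =>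
        CfsgLib.CharDegree.mem_kerSubgroup.1 (htop ▸ mem_top g)
      have h0 : Cfsg.classInner (χ : G → ℂ) (trivChar G : G → ℂ) = 0 := classInner_irr_of_ne hχ1
      rw [Cfsg.classInner] at h0
      simp only [hall, trivChar_apply, map_one, mul_one, Finset.sum_const, nsmul_eq_mul,
        Finset.card_univ, Nat.card_eq_fintype_card] at h0
      rw [← mul_assoc, inv_mul_cancel₀ (Nat.cast_ne_zero.2 Fintype.card_ne_zero), one_mul] at h0
      exact IsIrr.apply_one_ne_zero χ.2 h0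
    rw [CfsgLib.CharDegree.kerSubgroup_eq_bot_iff] at hker
    exact hu1 (hker u hval)
  · have h := CfsgLib.CharDegree.sum_three x x x⁻¹
    rw [hx.card_triangle, hS, hχx, hψx, hεC, hδC, Nat.cast_mul, Nat.cast_ofNat] at h
    set N := Nat.card {y : G // IsConj x y ∧ IsConj x (y⁻¹ * x)} with hN
    have h' : (Nat.card G : ℂ) * (α * α + α + 1) = 9 * (N : ℂ) * (α * (1 + α)) := by
      rw [← h]
      field_simp
      ring
    have hZ : (Nat.card G : ℤ) * (α * α + α + 1) = 9 * (N : ℤ) * (α * (1 + α)) := by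
      have h'' : (((Nat.card G : ℤ) * (α * α + α + 1) : ℤ) : ℂ) =
          ((9 * (N : ℤ) * (α * (1 + α)) : ℤ) : ℂ) := by push_cast; exact h'
      exact_mod_cast h''
    have hpos : (0 : ℤ) < α * (1 + α) := by
      rcases lt_or_gt_of_ne hα0 with h0 | h0
      · exact mul_pos_of_neg_of_neg h0 (by omega)
      · positivity
    have hG : (0 : ℤ) < (Nat.card G : ℤ) := by exact_mod_cast Nat.card_pos
    have : (Nat.card G : ℤ) * (α * (1 + α)) < ((9 * N : ℕ) : ℤ) * (α * (1 + α)) := by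
      push_cast; nlinarith
    exact_mod_cast lt_of_mul_lt_mul_right this hpos.le

end CfsgLib.Recog.SelfCentThree
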