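import Cfsg.Agent.Lib.Recog.SelfCentThree.Count
import Cfsg.Agent.Lib.Recog.SelfCentThree.Characters
import Cfsg.Agent.Lib.Perm.SimpleCount
import Cfsg.Agent.Lib.Recog.SimpleSixty

/-!
# The order of a simple group with a self-centralizing element of order three
-/

set_option autoImplicit false
set_option linter.all false
set_option maxHeartbeats 1000000

namespace CfsgLib.Recog.SelfCentThree

open Subgroup
open scoped Classical

/-- The sum of two or more distinct odd numbers that are `1` modulo `3` and exceed one is at most a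
quarter of their product. -/
theorem four_mul_sum_le_prod (P : Finset ℕ) (hP : ∀ n ∈ P, 7 ≤ n ∧ n % 6 = 1) (h2 : 2 ≤ P.card) :
    4 * ∑ n ∈ P, n ≤ ∏ n ∈ P, n := by
  induction P using Finset.induction_on with
  | empty => simp at h2
  | insert a P ha ih =>
    rw [Finset.sum_insert ha, Finset.prod_insert ha]
    have h7 := hP a (Finset.mem_insert_self a P)
    rcases Nat.lt_or_ge P.card 2 with h | h
    · rw [Finset.card_insert_of_notMem ha] at h2
      obtain ⟨b, rfl⟩ := Finset.card_eq_one.1 (by omega : P.card = 1)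
      have hb := hP b (by simp)
      have hab : a ≠ b := fun e => ha (by simp [e])
      simp only [Finset.sum_singleton, Finset.prod_singleton]
      rcases lt_or_gt_of_ne hab with hlt | hlt
      · have : 13 ≤ b := by omega
        nlinarith
      · have : 13 ≤ a := by omega
        nlinarith
    · have ih' := ih (fun n hn => hP n (Finset.mem_insert_of_mem hn)) h
      have h28 : 28 ≤ ∏ n ∈ P, n := by
        have : 7 ≤ ∑ n ∈ P, n := by
          obtain ⟨b, hb⟩ := Finset.card_pos.1 (by omega : 0 < P.card)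
          calc 7 ≤ b := (hP b (Finset.mem_insert_of_mem hb)).1
            _ ≤ _ := Finset.single_le_sum (fun n _ => Nat.zero_le n) hb
        omega
      generalize ∑ n ∈ P, n = S at ih' ⊢
      generalize ∏ n ∈ P, n = Q at ih' h28 ⊢
      obtain ⟨a', rfl⟩ := Nat.le.dest h7.1
      obtain ⟨b', rfl⟩ := Nat.le.dest h28
      nlinarith [Nat.zero_le (a' * b')]

variable {G : Type*} [Group G] [Finite G] [IsSimpleGroup G] {x t : G}

/-- A proper subgroup of index at most five forces order sixty. -/
theorem card_eq_sixty_of_index (hna : ¬ IsMulCommutative G) (hx : Setup x)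
    (ht : t * x * t⁻¹ = x⁻¹) (H : Subgroup G) (hH : H ≠ ⊤) (h : H.index ≤ 5) :
    Nat.card G = 60 := by
  have h1 := (CfsgLib.Perm.two_mul_card_dvd_factorial_index hna H hH).trans
    (Nat.factorial_dvd_factorial h)
  rw [show Nat.factorial 5 = 2 * 60 by decide] at h1
  have hd : Nat.card G ∣ 60 := Nat.dvd_of_mul_dvd_mul_left two_pos h1
  by_contra hne
  haveI := CfsgLib.Recog.Sixty.isSolvable_of_dvd_sixty hd hne
  have hlt := Group.IsSolvable.commutator_lt_top_of_nontrivial G
  refine hna ?_
  have hb : commutator G = ⊥ :=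
    ((inferInstance : (commutator G).Normal).eq_bot_or_eq_top).resolve_right hlt.ne
  exact ⟨⟨fun a b => commutatorElement_eq_one_iff_mul_comm.1 (Subgroup.mem_bot.1 (hb ▸
    Subgroup.commutator_mem_commutator (Subgroup.mem_top a) (Subgroup.mem_top b)))⟩⟩

theorem Member.normalizer_ne_top (hx : Setup x) {F : Subgroup G} (hF : Member x F) :
    normalizer (F : Set G) ≠ ⊤ := fun h => by
  have hn : F.Normal := normalizer_eq_top_iff.1 h
  rcases hn.eq_bot_or_eq_top with e | e
  · exact hF.ne_bot e
  · have h3 := hF.inv.three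
    rw [e, card_top] at h3
    exact h3 hx.three_dvd

/-- The arithmetic facts about members used in the final count. -/
theorem Member.dvd_facts (hx : Setup x) {F : Subgroup G} (hF : Member x F) :
    Nat.card F ∣ Nat.card G ∧ Nat.card F % 3 = 1 ∧ 2 ≤ Nat.card F := by
  refine ⟨card_subgroup_dvd_card F, hF.inv.card_mod hx, ?_⟩
  exact (one_lt_card_iff_ne_bot F).2 hF.ne_bot

theorem four_dvd_even_member [Fact (Nat.Prime 2)] (hx : Setup x) {F : Subgroup G} (hF : Member x F)
    (h2 : 2 ∣ Nat.card F) : 4 ∣ Nat.card F := by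
  have h1 := (hF.inv.part_inv (p := 2) hx).card_mod hx
  rw [card_part] at h1
  have h0 : 0 < (Nat.card F).factorization 2 :=
    Nat.prime_two.factorization_pos_of_dvd Nat.card_pos.ne' h2
  have : 2 ≤ (Nat.card F).factorization 2 := by
    by_contra h
    rw [show (Nat.card F).factorization 2 = 1 by omega] at h1
    norm_num at h1
  exact (Nat.prime_two.pow_dvd_iff_le_factorization Nat.card_pos.ne').2 this

/-- The `2`-part of a member that is not `t`-invariant is a Sylow subgroup. -/
theorem Member.not_two_pow_succ_dvd [Fact (Nat.Prime 2)] (hx : Setup x) (ht : t * x * t⁻¹ = x⁻¹)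
    (hloc : Local x t) {F : Subgroup G} (hF : Member x F) (htF : tw t F ≠ F)
    (h2 : 2 ∣ Nat.card F) : ¬ 2 ^ ((Nat.card F).factorization 2 + 1) ∣ Nat.card G := by
  intro hd
  obtain ⟨K, hK, hle⟩ := Sylow.exists_subgroup_card_pow_succ hd (card_part (p := 2) F)
  have hidx : ((part 2 F).subgroupOf K).index = 2 := by
    have h := ((part 2 F).subgroupOf K).card_mul_index
    rw [Nat.card_congr (subgroupOfEquivOfLe hle).toEquiv, card_part, hK, pow_succ] at h
    exact Nat.eq_of_mul_eq_mul_left (pow_pos two_pos _) h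
  have hKN : K ≤ normalizer (F : Set G) := by
    rw [← (hF.normalizer_part hx hloc h2).1]
    exact (normal_subgroupOf_iff_le_normalizer hle).1 (Subgroup.normal_of_index_eq_two hidx)
  have h := card_dvd_of_le hKN
  rw [hK, hF.card_normalizer hx ht hloc, if_neg htF] at h
  have h1 := (Nat.prime_two.pow_dvd_iff_le_factorization
    (Nat.mul_ne_zero Nat.card_pos.ne' (by norm_num))).1 h
  rw [Nat.factorization_mul Nat.card_pos.ne' (by norm_num), Finsupp.add_apply,
    Nat.factorization_eq_zero_of_not_dvd (by norm_num : ¬ 2 ∣ 3)] at h1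
  omega

/-- Case of no even `t`-invariant member. -/
theorem card_cases_not_inv (hna : ¬ IsMulCommutative G) (hx : Setup x) (ht : t * x * t⁻¹ = x⁻¹)
    (hloc : Local x t) (P : Finset ℕ) (D : ℕ)
    (hP : ∀ n ∈ P, 7 ≤ n ∧ n % 6 = 1)
    (hdiv : ∀ s, s.Coprime 3 → s ∣ Nat.card G → (∀ n ∈ P, s.Coprime n) → 3 * s * ∏ n ∈ P, n ∣ Nat.card G)
    (hmem : ∀ n ∈ P, ∃ F, Member x F ∧ Nat.card F = n)
    (hD : D + 2 * P.card ≤ 2 * ∑ n ∈ P, n)
    (hbound : ∀ S : ℕ, (∀ F, Member x F → 2 ∣ Nat.card F → False) →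
      Nat.card G + 1 ≤ 9 + 9 * D)
    (heven2 : 2 ∣ Nat.card G)
    (hnone : ∀ F, Member x F → 2 ∣ Nat.card F → False) :
    Nat.card G = 60 := by
  have hb := hbound 0 hnone
  obtain ⟨r, hr⟩ := hdiv 2 (by norm_num) heven2 (fun n hn => by
    have := hP n hn
    exact (Nat.prime_two.coprime_iff_not_dvd.2 (by omega)))
  have hpos : 0 < Nat.card G := Nat.card_pos
  rcases Nat.lt_or_ge P.card 2 with hc | hc
  · rcases Nat.eq_zero_or_pos P.card with h0 | h0
    · obtain rfl := Finset.card_eq_zero.1 h0
      simp only [Finset.sum_empty] at hD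
      have : Nat.card G ≤ 8 := by omega
      exfalso
      -- too small
      have h6 : 6 ∣ Nat.card G := by
        have := Nat.Coprime.mul_dvd_of_dvd_of_dvd (by norm_num : Nat.Coprime 2 3) heven2 hx.three_dvd
        simpa using this
      haveI : Group.IsSolvable G := CfsgLib.Recog.Sixty.isSolvable_of_dvd_sixty
        (by rw [show Nat.card G = 6 by omega]; norm_num) (by omega)
      refine hna ?_
      have hb : commutator G = ⊥ :=
        ((inferInstance : (commutator G).Normal).eq_bot_or_eq_top).resolve_right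
          (Group.IsSolvable.commutator_lt_top_of_nontrivial G).ne
      exact ⟨⟨fun a b => commutatorElement_eq_one_iff_mul_comm.1 (Subgroup.mem_bot.1 (hb ▸
        Subgroup.commutator_mem_commutator (Subgroup.mem_top a) (Subgroup.mem_top b)))⟩⟩
    · obtain ⟨n, rfl⟩ := Finset.card_eq_one.1 (by omega : P.card = 1)
      simp only [Finset.sum_singleton, Finset.prod_singleton, Finset.card_singleton] at hD hr
      have h7 := (hP n (by simp)).1
      obtain ⟨F, hF, hFn⟩ := hmem n (by simp)
      have hN := (normalizer (F : Set G)).card_mul_index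
      rw [hF.card_normalizer hx ht hloc, hFn] at hN
      have hr3 : r ≤ 3 := by nlinarith
      refine card_eq_sixty_of_index hna hx ht _ (hF.normalizer_ne_top hx) ?_
      split_ifs at hN with h
      · have : (normalizer (F : Set G)).index = r := by nlinarith
        omega
      · have h2 : (normalizer (F : Set G)).index = 2 * r := by nlinarith
        have hr2 : r ≠ 3 := fun e => hx.not_nine_dvd ⟨2 * n, by rw [hr, e]; ring⟩
        omega
  · exfalso
    have := four_mul_sum_le_prod P hP hc
    have hr1 : 1 ≤ r := by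
      rcases Nat.eq_zero_or_pos r with h | h
      · rw [h, mul_zero] at hr; omega
      · exact h
    nlinarith

theorem card_cases_pair (hna : ¬ IsMulCommutative G) (hx : Setup x) (ht : t * x * t⁻¹ = x⁻¹)
    (hloc : Local x t) (P : Finset ℕ) (D : ℕ)
    (hP : ∀ n ∈ P, 7 ≤ n ∧ n % 6 = 1)
    (hmem : ∀ n ∈ P, ∃ F, Member x F ∧ Nat.card F = n)
    (hD : D + 2 * P.card ≤ 2 * ∑ n ∈ P, n)
    {F₀ : Subgroup G} (hF₀ : Member x F₀) (htF₀ : tw t F₀ ≠ F₀) (h4 : 4 ∣ Nat.card F₀)
    (hcop : ∀ n ∈ P, (Nat.card F₀).Coprime n)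
    (hdiv : 3 * Nat.card F₀ * ∏ n ∈ P, n ∣ Nat.card G)
    (hbound : Nat.card G + 1 ≤ 9 + 9 * (2 * (Nat.card F₀ - 1) + D)) :
    Nat.card G = 60 := by
  haveI : Fact (Nat.Prime 2) := ⟨Nat.prime_two⟩
  obtain ⟨r, hr⟩ := hdiv
  have hrodd : ¬ 2 ∣ r := fun h => by
    refine hF₀.not_two_pow_succ_dvd hx ht hloc htF₀ ((by norm_num : 2 ∣ 4).trans h4) ?_
    rw [hr, pow_succ]
    exact Nat.mul_dvd_mul (((Nat.ordProj_dvd _ 2).trans (dvd_mul_left _ 3)).mul_right _) h
  obtain ⟨-, hs3, hs2⟩ := hF₀.dvd_facts hx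
  set s := Nat.card F₀ with hs
  have hN := (normalizer (F₀ : Set G)).card_mul_index
  rw [hF₀.card_normalizer hx ht hloc, if_neg htF₀, ← hs] at hN
  set o := (normalizer (F₀ : Set G)).index with ho
  have hpos : 0 < Nat.card G := Nat.card_pos
  have hr1 : 1 ≤ r := by
    rcases Nat.eq_zero_or_pos r with h | h
    · rw [h, mul_zero] at hr; omega
    · exact h
  have ho' : o = (∏ n ∈ P, n) * r := by
    refine Nat.eq_of_mul_eq_mul_left (show 0 < s * 3 by omega) ?_
    rw [hN, hr]; ring
  rcases Nat.lt_or_ge P.card 2 with hc | hc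
  · rcases Nat.eq_zero_or_pos P.card with h0 | h0
    · obtain rfl := Finset.card_eq_zero.1 h0
      simp only [Finset.sum_empty, Finset.prod_empty, mul_one, one_mul] at hD hr ho'
      refine card_eq_sixty_of_index hna hx ht _ (hF₀.normalizer_ne_top hx) ?_
      rw [← ho, ho']
      by_contra h6
      have : 3 * s * 6 ≤ Nat.card G := by rw [hr]; exact Nat.mul_le_mul_left _ (by omega)
      omega
    · obtain ⟨n, rfl⟩ := Finset.card_eq_one.1 (by omega : P.card = 1)
      simp only [Finset.sum_singleton, Finset.prod_singleton, Finset.card_singleton] at hD hr ho'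
      obtain ⟨h7, h6⟩ := hP n (by simp)
      have hsn := hcop n (by simp)
      have hr_one : r = 1 := by
        by_contra hne
        have hr3 : r ≠ 3 := fun e => hx.not_nine_dvd ⟨s * n, by rw [hr, e]; ring⟩
        have hr5 : 5 ≤ r := by omega
        have h1 : Nat.card G + 1 ≤ 9 + 9 * (2 * (s - 1) + (2 * n - 2)) := by omega
        have h2 : 3 * s * n * 5 ≤ Nat.card G := by rw [hr]; exact Nat.mul_le_mul_left _ hr5
        obtain ⟨j, hj⟩ := h4
        have h12 : 12 * n ≤ 3 * s * n := Nat.mul_le_mul_right _ (by omega)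
        have h21 : 3 * s * 7 ≤ 3 * s * n := Nat.mul_le_mul_left _ h7
        omega
      rw [hr_one, mul_one] at hr ho'
      obtain ⟨F, hF, hFn⟩ := hmem n (by simp)
      by_cases hs4 : s = 4
      · refine card_eq_sixty_of_index hna hx ht _ (hF.normalizer_ne_top hx) ?_
        have hNF := (normalizer (F : Set G)).card_mul_index
        rw [hF.card_normalizer hx ht hloc, hFn, hr, hs4] at hNF
        split_ifs at hNF with h
        · nlinarith
        · nlinarith
      exfalso
      obtain ⟨j, hj⟩ := h4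
      have hs16 : 16 ≤ s := by omega
      have hkey : s * n + 9 ≤ 6 * s + 6 * n := by
        have h1 : Nat.card G + 1 ≤ 9 + 9 * (2 * (s - 1) + (2 * n - 2)) := by omega
        rw [hr] at h1
        have : 3 * (s * n) = 3 * s * n := by ring
        omega
      have hn7 : n = 7 := by
        by_contra hne
        have : 13 ≤ n := by omega
        nlinarith
      subst hn7
      have hs32 : s ≤ 33 := by omega
      have ho7 : o ≤ 7 := by omega
      have h1 := (CfsgLib.Perm.two_mul_card_dvd_factorial_index hna _ (hF₀.normalizer_ne_top hx)).trans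
        (Nat.factorial_dvd_factorial (ho ▸ ho7 : (normalizer (F₀ : Set G)).index ≤ 7))
      rw [hr, show Nat.factorial 7 = 5040 by decide] at h1
      interval_cases s <;> omega
  · exfalso
    have h4sum := four_mul_sum_le_prod P hP hc
    set Q := ∏ n ∈ P, n with hQ
    have hQ49 : 49 ≤ Q := by
      obtain ⟨a, ha, b, hb, hab⟩ := Finset.one_lt_card.1 hc
      have hsum : a + b ≤ ∑ n ∈ P, n := by
        rw [← Finset.sum_pair (f := fun n : ℕ => n) hab]
        exact Finset.sum_le_sum_of_subset (by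
          intro c hc'; simp only [Finset.mem_insert, Finset.mem_singleton] at hc'
          rcases hc' with rfl | rfl <;> assumption)
      have := (hP a ha).1
      have := (hP b hb).1
      omega
    have h2 : 3 * s * Q ≤ Nat.card G := by
      rw [hr]; exact Nat.le_mul_of_pos_right _ hr1
    obtain ⟨j, hj⟩ := h4
    have h12 : 12 * Q ≤ 3 * s * Q := Nat.mul_le_mul_right _ (by omega)
    have h21 : 3 * s * 49 ≤ 3 * s * Q := Nat.mul_le_mul_left _ hQ49
    omega

/-- Case of even `t`-invariant members. -/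
theorem card_cases_inv [Fact (Nat.Prime 2)] (hna : ¬ IsMulCommutative G) (hx : Setup x)
    (ht : t * x * t⁻¹ = x⁻¹) (hloc : Local x t)
    (hconj : ∀ u : G, u * u = 1 → u ≠ 1 → IsConj t u) (P : Finset ℕ) (D : ℕ)
    (hP : ∀ n ∈ P, 7 ≤ n ∧ n % 6 = 1)
    (hD : D + 2 * P.card ≤ 2 * ∑ n ∈ P, n)
    (T : Finset (Subgroup G)) (hT : ∀ F ∈ T, Member x F ∧ tw t F = F ∧ 2 ∣ Nat.card F)
    (hTne : T.Nonempty)
    (hdiv : ∀ s, s.Coprime 3 → s ∣ Nat.card G → (∀ n ∈ P, s.Coprime n) → 3 * s * ∏ n ∈ P, n ∣ Nat.card G)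
    (hcop : ∀ F ∈ T, ∀ n ∈ P, (Nat.card F).Coprime n)
    (hbound : Nat.card G + 1 ≤ 9 + 9 * (∑ F ∈ T, (Nat.card F - 1) + D)) :
    Nat.card G = 168 := by
  set g := Nat.card G with hg
  have hpos : 0 < g := Nat.card_pos
  set v := g.factorization 2 with hv
  have hσdvd : 2 ^ v ∣ g := Nat.ordProj_dvd g 2
  have hσ3 : (2 ^ v).Coprime 3 := Nat.Coprime.pow_left _ (by norm_num)
  have hσP : ∀ n ∈ P, (2 ^ v).Coprime n := fun n hn =>
    Nat.Coprime.pow_left _ (Nat.prime_two.coprime_iff_not_dvd.2 (by have := hP n hn; omega))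
  set C := Nat.card (centralizer ({t} : Set G)) with hC
  set I := Nat.card {u : G // IsConj t u} with hI
  have hIC : I * C = g := CfsgLib.Perm.card_isConj_mul_card_centralizer t
  have hcent : ∀ u : G, u * u = 1 → u ≠ 1 → Nat.card (centralizer ({u} : Set G)) = C := by
    intro u hu hu1
    have h1 := CfsgLib.Perm.card_isConj_mul_card_centralizer u
    have h2 : Nat.card {y : G // IsConj u y} = I :=
      Nat.card_congr (Equiv.subtypeEquivRight fun y =>
        ⟨fun h => (hconj u hu hu1).trans h, fun h => (hconj u hu hu1).symm.trans h⟩)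
    rw [h2, ← hg, ← hIC] at h1
    exact Nat.eq_of_mul_eq_mul_left (by
      rcases Nat.eq_zero_or_pos I with h | h
      · rw [h, zero_mul] at hIC; omega
      · exact h) h1
  have hinv2 : ∀ (H : Subgroup G), IsPGroup 2 H → H ≠ ⊥ →
      ∃ u ∈ H, u * u = 1 ∧ u ≠ 1 ∧ ∀ h ∈ H, h * u = u * h := by
    intro H hH hne
    haveI : Nontrivial H := (nontrivial_iff_ne_bot H).2 hne
    haveI := hH.center_nontrivial
    obtain ⟨k, hk, hk2⟩ := (hH.to_subgroup (center H)).nontrivial_iff_card.1 inferInstance
    have hdvd : 2 ∣ Nat.card (center H) := hk2 ▸ dvd_pow_self 2 hk.ne'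
    obtain ⟨u, hu⟩ := exists_prime_orderOf_dvd_card' 2 hdvd
    refine ⟨u.1.1, u.1.2, ?_, ?_, fun h hh =>
      congrArg Subtype.val (mem_center_iff.1 u.2 ⟨h, hh⟩)⟩
    · have := pow_orderOf_eq_one u
      rw [hu, pow_two] at this
      exact congrArg (fun a : center H => a.1.1) this
    · intro e
      have : u = 1 := Subtype.ext (Subtype.ext e)
      rw [this, orderOf_one] at hu
      omega
  have hσC : 2 ^ v ∣ C := by
    obtain ⟨S⟩ : Nonempty (Sylow 2 G) := inferInstance
    have hS : (S : Subgroup G) ≠ ⊥ := by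
      obtain ⟨F, hF⟩ := hTne
      exact S.ne_bot_of_dvd_card ((hT F hF).2.2.trans (card_subgroup_dvd_card F))
    obtain ⟨u, -, hu, hu1, hcomm⟩ := hinv2 S S.2 hS
    rw [← hcent u hu hu1, hv, hg, ← Sylow.card_eq_multiplicity S]
    exact card_dvd_of_le fun h hh => mem_centralizer_singleton_iff.2 (hcomm h hh)
  have hfC : ∀ F ∈ T, Nat.card F ∣ C := by
    intro F hF
    obtain ⟨hm, -, h2⟩ := hT F hF
    obtain ⟨u, huF, hu, hu1, hcomm⟩ := hinv2 (part 2 F) (isPGroup_part F) (part_ne_bot h2)
    rw [← hcent u hu hu1]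
    refine (Nat.factorization_le_iff_dvd Nat.card_pos.ne' Nat.card_pos.ne').1 fun p => ?_
    by_cases hp : p.Prime
    swap
    · simp [Nat.factorization_eq_zero_of_not_prime _ hp]
    haveI : Fact p.Prime := ⟨hp⟩
    refine (hp.pow_dvd_iff_le_factorization Nat.card_pos.ne').1 ?_
    rw [← card_part (p := p) F]
    refine card_dvd_of_le fun h hh => mem_centralizer_singleton_iff.2 ?_
    by_cases hp2 : p = 2
    · subst hp2; exact hcomm h hh
    · have hd : Disjoint (part p F) (part 2 F) := by
        rw [disjoint_iff]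
        refine inf_eq_bot_of_coprime ?_
        rw [card_part, card_part]
        exact ((Nat.coprime_primes hp Nat.prime_two).2 hp2).pow _ _
      have h1 : (part p F).subgroupOf F ⊓ (part 2 F).subgroupOf F = ⊥ := by
        rw [eq_bot_iff_forall]
        intro a ha
        exact Subtype.ext (Subgroup.mem_bot.1 (hd.eq_bot ▸ mem_inf.2 ⟨ha.1, ha.2⟩))
      have hn : ∀ q [Fact q.Prime], ((part q F).subgroupOf F).Normal := fun q _ =>
        normal_subgroupOf_iff_le_normalizer (part_le F) |>.2 (hm.inv.le_normalizer_part hx)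
      exact congrArg Subtype.val (commute_of_normal_of_disjoint _ _ (hn p) (hn 2)
        (disjoint_iff.2 h1) ⟨h, part_le F hh⟩ ⟨u, part_le F huF⟩ hh huF).eq
  have h2f : ∀ F ∈ T, 2 * Nat.card F ∣ C ∧ (Nat.card F).factorization 2 < v := by
    intro F hF
    obtain ⟨hm, htF, h2⟩ := hT F hF
    obtain ⟨a, ha, hlt⟩ := two_mul_le_partT hx ht hm htF
    have hav : a ≤ v := (Nat.prime_two.pow_dvd_iff_le_factorization hpos.ne').1
      (ha ▸ card_subgroup_dvd_card (partT t F))
    refine ⟨?_, by omega⟩
    have hf0 : Nat.card F ≠ 0 := Nat.card_pos.ne'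
    have hC0 : C ≠ 0 := Nat.card_pos.ne'
    refine (Nat.factorization_le_iff_dvd (by omega) hC0).1 fun p => ?_
    rw [Nat.factorization_mul two_ne_zero hf0, Finsupp.add_apply, Nat.prime_two.factorization]
    have hfp := (Nat.factorization_le_iff_dvd hf0 hC0).2 (hfC F hF) p
    have hC2 := (Nat.prime_two.pow_dvd_iff_le_factorization hC0).1 hσC
    by_cases hp : p = 2
    · subst hp; rw [Finsupp.single_eq_same]; omega
    · rw [Finsupp.single_eq_of_ne hp, zero_add]; exact hfp
  have hC0 : 0 < C := Nat.card_pos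
  have hf4 : ∀ F ∈ T, 4 ≤ Nat.card F := fun F hF =>
    Nat.le_of_dvd Nat.card_pos (four_dvd_even_member hx (hT F hF).1 (hT F hF).2.2)
  have hclass := card_class_ge hx ht hloc T fun F hF => ⟨(hT F hF).1, (hT F hF).2.1⟩
  rw [Finset.sum_comm, ← hI] at hclass
  rcases (by omega : v = 3 ∨ v ≠ 3) with hv3 | hv3
  · -- Sylow 2-subgroups of order eight
    have hk := card_even_le_two hx ht hloc hv3 T hT
    obtain ⟨F, hF⟩ := hTne
    have hodd : ∀ E ∈ T, ∃ m, Nat.card E = 4 * m ∧ ¬ 2 ∣ m := by
      intro E hE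
      obtain ⟨m, hm⟩ := four_dvd_even_member hx (hT E hE).1 (hT E hE).2.2
      refine ⟨m, hm, fun h => ?_⟩
      have h8 : 2 ^ 3 ∣ Nat.card E := by
        obtain ⟨k, rfl⟩ := h; exact ⟨k, by rw [hm]; ring⟩
      have := (Nat.prime_two.pow_dvd_iff_le_factorization Nat.card_pos.ne').1 h8
      have := (h2f E hE).2
      omega
    -- divisibility by twenty four times the odd parts
    have hm24 : ∀ E ∈ T, ∀ m, Nat.card E = 4 * m → ∀ k, k ∣ g → ¬ 2 ∣ k → k.Coprime m →
        ¬ 3 ∣ k → (∀ n ∈ P, k.Coprime n) → 24 * (m * k) * ∏ n ∈ P, n ∣ g := by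
      intro E hE m hm k hk hk2 hkm hk3 hkP
      have hmg : m ∣ g := (Dvd.intro_left 4 hm.symm).trans (card_subgroup_dvd_card E)
      obtain ⟨m', hm', hm2⟩ := hodd E hE
      obtain rfl : m' = m := by omega
      have hm3 : ¬ 3 ∣ m' := fun h => (hT E hE).1.inv.three (hm ▸ h.mul_left 4)
      have hmP : ∀ n ∈ P, m'.Coprime n := fun n hn =>
        (hcop E hE n hn).coprime_dvd_left (Dvd.intro_left 4 hm.symm)
      have h := hdiv (2 ^ v * (m' * k))
        (hσ3.mul_left (((Nat.prime_three.coprime_iff_not_dvd.2 hm3).symm).mul_left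
          ((Nat.prime_three.coprime_iff_not_dvd.2 hk3).symm)))
        (Nat.Coprime.mul_dvd_of_dvd_of_dvd
          (Nat.Coprime.pow_left _ ((Nat.prime_two.coprime_iff_not_dvd.2 hm2).mul_right
            (Nat.prime_two.coprime_iff_not_dvd.2 hk2)))
          hσdvd (hkm.symm.mul_dvd_of_dvd_of_dvd hmg hk))
        (fun n hn => (hσP n hn).mul_left ((hmP n hn).mul_left (hkP n hn)))
      rw [hv3] at h
      rw [show 24 * (m' * k) * ∏ n ∈ P, n = 3 * (2 ^ 3 * (m' * k)) * ∏ n ∈ P, n by ring]
      exact h
    have hidx : ∀ E ∈ T, ∀ m, Nat.card E = 4 * m → 120 * m ≤ g := by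
      intro E hE m hm
      have hN := (normalizer (E : Set G)).card_mul_index
      rw [(hT E hE).1.card_normalizer hx ht hloc, if_pos (hT E hE).2.1, hm, ← hg] at hN
      by_contra hlt
      have hle : (normalizer (E : Set G)).index ≤ 5 := by
        by_contra h
        have h' : 4 * m * 6 * 6 ≤ g := hN ▸ Nat.mul_le_mul_left _ (by omega)
        omega
      have h60 := card_eq_sixty_of_index hna hx ht _ ((hT E hE).1.normalizer_ne_top hx) hle
      rw [← hg] at h60
      have h8 : 2 ^ v ∣ 60 := h60 ▸ hσdvd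
      rw [hv3] at h8
      norm_num at h8
    -- the other member, if any
    obtain ⟨m₁, hm₁, hm₁2⟩ := hodd F hF
    obtain ⟨m₂, hm₂g, hsum, hprod⟩ : ∃ m₂, (m₂ = 1 ∨ 120 * m₂ ≤ g) ∧
        (∑ E ∈ T, (Nat.card E - 1)) + 2 ≤ 4 * m₁ + 4 * m₂ ∧
        24 * (m₁ * m₂) * ∏ n ∈ P, n ∣ g := by
      by_cases hex : ∃ E ∈ T, E ≠ F
      · obtain ⟨E, hE, hEF⟩ := hex
        obtain ⟨m₂, hm₂, hm₂2⟩ := hodd E hE
        refine ⟨m₂, Or.inr (hidx E hE m₂ hm₂), ?_, ?_⟩
        · have hTeq : T = {F, E} := (Finset.eq_of_subset_of_card_le (by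
            intro a ha; simp only [Finset.mem_insert, Finset.mem_singleton] at ha
            rcases ha with rfl | rfl <;> assumption)
            (by rw [Finset.card_pair (Ne.symm hEF)]; exact hk)).symm
          rw [hTeq, Finset.sum_pair (Ne.symm hEF), hm₁, hm₂]
          have := hf4 E hE
          have := hf4 F hF
          omega
        · refine hm24 F hF m₁ hm₁ m₂ ((Dvd.intro_left 4 hm₂.symm).trans (card_subgroup_dvd_card E))
            hm₂2 ?_ (fun h => (hT E hE).1.inv.three (hm₂ ▸ h.mul_left 4))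
            (fun n hn => (hcop E hE n hn).coprime_dvd_left (Dvd.intro_left 4 hm₂.symm))
          refine Nat.coprime_of_dvd fun p hp hp2 hp1 => ?_
          haveI : Fact p.Prime := ⟨hp⟩
          have hne2 : p ≠ 2 := fun e => hm₁2 (e ▸ hp1)
          have hne3 : p ≠ 3 := fun e => (hT F hF).1.inv.three (hm₁ ▸ (e ▸ hp1).mul_left 4)
          rcases (hT F hF).1.eq_of_shared hx ht hloc (hT E hE).1 (hm₁ ▸ hp1.mul_left 4)
            (hm₂ ▸ hp2.mul_left 4) hne3 (fun e => absurd e hne2) (fun e => absurd e hne2) with e | e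
          · exact hEF e
          · exact hEF (e.trans (hT F hF).2.1)
      · push Not at hex
        refine ⟨1, Or.inl rfl, ?_, ?_⟩
        · rw [show T = {F} from Finset.eq_singleton_iff_unique_mem.2 ⟨hF, hex⟩, Finset.sum_singleton,
            hm₁]
          have := hf4 F hF
          omega
        · exact hm24 F hF m₁ hm₁ 1 (one_dvd _) (by norm_num) (Nat.coprime_one_left _) (by norm_num)
            (fun n _ => Nat.coprime_one_left _)
    have hi1 := hidx F hF m₁ hm₁
    obtain ⟨r, hr⟩ := hprod
    have hmain : g + 1 ≤ 36 * m₁ + 36 * m₂ + 18 * (∑ n ∈ P, n) - 18 * P.card - 9 := by omega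
    have hrge : 1 ≤ r := by
      rcases Nat.eq_zero_or_pos r with h | h
      · rw [h, mul_zero] at hr; omega
      · exact h
    set Q := ∏ n ∈ P, n with hQ
    have hge : 24 * (m₁ * m₂) * Q ≤ g := by rw [hr]; exact Nat.le_mul_of_pos_right _ hrge
    have hm₁1 : 1 ≤ m₁ := by have := hf4 F hF; omega
    rcases Nat.lt_or_ge P.card 2 with hc | hc
    · rcases Nat.eq_zero_or_pos P.card with h0 | h0
      · obtain rfl := Finset.card_eq_zero.1 h0
        simp only [Finset.sum_empty] at hmain
        omega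
      · obtain ⟨n, rfl⟩ := Finset.card_eq_one.1 (by omega : P.card = 1)
        simp only [Finset.sum_singleton, Finset.prod_singleton, Finset.card_singleton, hQ] at hmain hge hr
        obtain ⟨h7, h6⟩ := hP n (by simp)
        have h168 : m₁ * m₂ * 168 ≤ g := le_trans (le_trans (le_of_eq (by ring))
          (Nat.mul_le_mul_left (24 * (m₁ * m₂)) h7)) hge
        have hm12 : m₁ = 1 ∧ m₂ = 1 := by
          rcases hm₂g with rfl | hm₂g
          · refine ⟨?_, rfl⟩
            by_contra hne
            have h2n : 24 * 2 * n ≤ 24 * (m₁ * 1) * n := Nat.mul_le_mul_right _ (by omega)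
            omega
          · by_contra hne
            have hm₂1 : 1 ≤ m₂ := by
              by_contra h0'
              rw [show m₂ = 0 by omega, mul_zero, mul_zero, zero_mul, zero_mul] at hr
              omega
            have h2n : 24 * 2 * n ≤ 24 * (m₁ * m₂) * n := Nat.mul_le_mul_right _
              (Nat.mul_le_mul_left _ (by
                rcases Nat.lt_or_ge m₁ 2 with h | h
                · have : m₁ = 1 := by omega
                  subst this; omega
                · nlinarith))
            omega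
        obtain ⟨rfl, rfl⟩ := hm12
        have hr_one : r = 1 := by
          by_contra hne
          have hr2 : 2 ≤ r := by omega
          have : 24 * (1 * 1) * n * 2 ≤ g := by rw [hr]; exact Nat.mul_le_mul_left _ hr2
          omega
        rw [hr_one] at hr
        omega
    · exfalso
      have := four_mul_sum_le_prod P hP hc
      have hQm1 : Q * m₁ ≤ m₁ * m₂ * Q ∨ m₂ = 0 := by
        rcases Nat.eq_zero_or_pos m₂ with h | h
        · exact Or.inr h
        · left
          calc Q * m₁ = m₁ * 1 * Q := by ring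
            _ ≤ m₁ * m₂ * Q := Nat.mul_le_mul_right _ (Nat.mul_le_mul_left _ h)
      have hm₂0 : m₂ ≠ 0 := fun h => by rw [h, mul_zero, mul_zero, zero_mul, zero_mul] at hr; omega
      have h24 : 24 * Q ≤ 24 * (m₁ * m₂) * Q :=
        Nat.mul_le_mul_right _ (Nat.le_mul_of_pos_right _ (Nat.mul_pos hm₁1 (by omega)))
      rcases hm₂g with rfl | hm₂g <;> omega
  · -- larger Sylow 2-subgroups
    obtain ⟨F₀, hF₀⟩ := hTne
    have hv4 : 4 ≤ v := by
      have := (h2f F₀ hF₀).2
      have h4 := (Nat.prime_two.pow_dvd_iff_le_factorization (p := 2) (k := 2) Nat.card_pos.ne').1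
        (four_dvd_even_member hx (hT F₀ hF₀).1 (hT F₀ hF₀).2.2)
      omega
    have h16C : 16 ≤ C := Nat.le_of_dvd hC0 ((pow_dvd_pow 2 hv4).trans hσC)
    have hper : ∀ F ∈ T, 12 * Nat.card F ≤
        C * ∑ i : Fin 3, ((orbitF F (taus x t i)).card - 1) := by
      intro F hF
      have hmem := (hT F hF).1
      have h4 := hf4 F hF
      have hle : 2 * Nat.card F ≤ C := Nat.le_of_dvd hC0 (h2f F hF).1
      by_cases hf : Nat.card F = 4
      · have hJ : ∀ i, 1 ≤ (orbitF F (taus x t i)).card - 1 := fun i => by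
          have h := (hmem.le_orbit_sq hx ht i).1
          by_contra hlt
          have : (orbitF F (taus x t i)).card ≤ 1 := by omega
          nlinarith
        have : 3 ≤ ∑ i : Fin 3, ((orbitF F (taus x t i)).card - 1) := by
          rw [Fin.sum_univ_three]; have := hJ 0; have := hJ 1; have := hJ 2; omega
        calc 12 * Nat.card F = 16 * 3 := by rw [hf]
          _ ≤ _ := Nat.mul_le_mul h16C this
      · have hJ : ∀ i, 2 ≤ (orbitF F (taus x t i)).card - 1 := fun i => by
          have h := (hmem.le_orbit_sq hx ht i).1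
          by_contra hlt
          have := Nat.mul_le_mul (show (orbitF F (taus x t i)).card ≤ 2 by omega)
            (show (orbitF F (taus x t i)).card ≤ 2 by omega)
          omega
        have : 6 ≤ ∑ i : Fin 3, ((orbitF F (taus x t i)).card - 1) := by
          rw [Fin.sum_univ_three]; have := hJ 0; have := hJ 1; have := hJ 2; omega
        calc 12 * Nat.card F = (2 * Nat.card F) * 6 := by ring
          _ ≤ _ := Nat.mul_le_mul hle this
    set A := ∑ F ∈ T, Nat.card F with hA
    have h12A : 48 + 12 * A ≤ g := by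
      rw [← hIC]
      calc 48 + 12 * A = 3 * 16 + ∑ F ∈ T, 12 * Nat.card F := by rw [hA, Finset.mul_sum]
        _ ≤ 3 * C + ∑ F ∈ T, C * ∑ i : Fin 3, ((orbitF F (taus x t i)).card - 1) :=
          Nat.add_le_add (Nat.mul_le_mul_left _ h16C) (Finset.sum_le_sum hper)
        _ = (3 + ∑ F ∈ T, ∑ i : Fin 3, ((orbitF F (taus x t i)).card - 1)) * C := by
          rw [← Finset.mul_sum]; ring
        _ ≤ I * C := Nat.mul_le_mul_right _ hclass
    have hTA : ∑ F ∈ T, (Nat.card F - 1) + T.card = A := by
      rw [hA, Finset.card_eq_sum_ones, ← Finset.sum_add_distrib]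
      exact Finset.sum_congr rfl fun F hF => by have := hf4 F hF; omega
    obtain ⟨r, hr⟩ := hdiv (2 ^ v) hσ3 hσdvd hσP
    have hrge : 1 ≤ r := by
      rcases Nat.eq_zero_or_pos r with h | h
      · rw [h, mul_zero] at hr; omega
      · exact h
    rcases Nat.lt_or_ge P.card 2 with hc | hc
    · rcases Nat.eq_zero_or_pos P.card with h0 | h0
      · obtain rfl := Finset.card_eq_zero.1 h0
        simp only [Finset.sum_empty] at hD
        omega
      · obtain ⟨n, rfl⟩ := Finset.card_eq_one.1 (by omega : P.card = 1)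
        simp only [Finset.sum_singleton, Finset.prod_singleton, Finset.card_singleton] at hD hr
        exfalso
        obtain ⟨h7, h6⟩ := hP n (by simp)
        have hσ24 : 2 ^ v * r < 24 := by
          have h1 : g < 72 * n := by omega
          rw [hr] at h1
          by_contra hge
          have : 3 * 24 * n ≤ 3 * 2 ^ v * n * r := by
            calc 3 * 24 * n ≤ 3 * (2 ^ v * r) * n := Nat.mul_le_mul_right _ (by omega)
              _ = 3 * 2 ^ v * n * r := by ring
          omega
        have hv4' : v = 4 := by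
          by_contra hne
          have : 2 ^ 5 ≤ 2 ^ v := Nat.pow_le_pow_right two_pos (by omega)
          nlinarith
        have hr_one : r = 1 := by
          rw [hv4'] at hσ24; omega
        rw [hv4', hr_one] at hr
        have hg48 : g = 48 * n := by omega
        have hall : ∀ F ∈ T, Nat.card F = 4 := by
          intro F hF
          have h16 : 2 * Nat.card F ∣ 16 * (3 * n) := by
            have := (h2f F hF).1.trans (Dvd.intro_left I hIC)
            rwa [hg48, show 48 * n = 16 * (3 * n) by ring] at this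
          have hcop3 : (2 * Nat.card F).Coprime (3 * n) := by
            refine Nat.Coprime.mul_left ?_ ?_
            · exact Nat.prime_two.coprime_iff_not_dvd.2 (by omega)
            · exact Nat.Coprime.mul_right ((Nat.prime_three.coprime_iff_not_dvd.2
                (hT F hF).1.inv.three).symm) (hcop F hF n (by simp))
          have h := Nat.le_of_dvd (by norm_num) (hcop3.dvd_of_dvd_mul_right h16)
          have h3 := ((hT F hF).1.dvd_facts hx).2.1
          have h4 := hf4 F hF
          obtain ⟨j, hj⟩ := four_dvd_even_member hx (hT F hF).1 (hT F hF).2.2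
          omega
        have hk : A = 4 * T.card := by
          rw [hA, Finset.sum_congr rfl hall, Finset.sum_const, smul_eq_mul, mul_comm]
        omega
    · exfalso
      have := four_mul_sum_le_prod P hP hc
      have : 48 * (∏ n ∈ P, n) ≤ g := by
        rw [hr]
        calc 48 * (∏ n ∈ P, n) = 3 * 2 ^ 4 * (∏ n ∈ P, n) * 1 := by norm_num
          _ ≤ _ := Nat.mul_le_mul (Nat.mul_le_mul_right _
              (Nat.mul_le_mul_left _ (Nat.pow_le_pow_right two_pos hv4))) hrge
      omega

/-- The order of a simple group with a self-centralizing element of order three. -/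
theorem card_cases [Fact (Nat.Prime 2)] (hna : ¬ IsMulCommutative G) (hx : Setup x)
    (ht : t * x * t⁻¹ = x⁻¹) (hloc : Local x t) : Nat.card G = 60 ∨ Nat.card G = 168 := by
  obtain ⟨hconj, hlt⟩ := char_facts hna hx ht
  have htri := hx.card_triangle_le
  set M := members x with hM
  set E := M.filter fun F : Subgroup G => 2 ∣ Nat.card F with hE
  set O := M.filter fun F : Subgroup G => ¬ 2 ∣ Nat.card F with hO
  set P := O.image fun F : Subgroup G => Nat.card F with hP'
  have hPmem : ∀ n ∈ P, ∃ F, Member x F ∧ Nat.card F = n ∧ ¬ 2 ∣ n := by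
    intro n hn
    obtain ⟨F, hF, rfl⟩ := Finset.mem_image.1 hn
    rw [hO, Finset.mem_filter, hM, mem_members] at hF
    exact ⟨F, hF.1, rfl, hF.2⟩
  have hP : ∀ n ∈ P, 7 ≤ n ∧ n % 6 = 1 := by
    intro n hn
    obtain ⟨F, hF, rfl, h2⟩ := hPmem n hn
    have := hF.dvd_facts hx
    omega
  have hshare : ∀ {F K : Subgroup G} {p : ℕ}, Member x F → Member x K → p.Prime → p ∣ Nat.card F →
      p ∣ Nat.card K → ¬ 2 ∣ Nat.card F → Nat.card K = Nat.card F ∧ (K = F ∨ K = tw t F) := by
    intro F K p hF hK hp hpF hpK h2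
    haveI : Fact p.Prime := ⟨hp⟩
    have h := hF.eq_of_shared hx ht hloc hK hpF hpK (fun e => hF.inv.three (e ▸ hpF))
      (fun e => absurd (e ▸ hpF) h2) (fun e => absurd (e ▸ hpF) h2)
    refine ⟨?_, h⟩
    rcases h with rfl | rfl
    · rfl
    · exact card_tw F
  -- the odd members
  set D := ∑ F ∈ O, (Nat.card ↥(F : Subgroup G) - 1) with hD'
  have hD : D + 2 * P.card ≤ 2 * ∑ n ∈ P, n := by
    have h1 : D ≤ ∑ n ∈ P, 2 * (n - 1) := by
      rw [hD', ← Finset.sum_fiberwise_of_maps_to (t := P) (g := fun F : Subgroup G => Nat.card F)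
        (fun F hF => Finset.mem_image_of_mem _ hF)]
      refine Finset.sum_le_sum fun n hn => ?_
      rw [Finset.sum_congr rfl (g := fun _ => n - 1) fun F hF => by rw [(Finset.mem_filter.1 hF).2],
        Finset.sum_const, smul_eq_mul]
      refine Nat.mul_le_mul_right _ ?_
      rcases (O.filter fun F : Subgroup G => Nat.card F = n).eq_empty_or_nonempty with h | ⟨F, hF⟩
      · rw [h]; simp
      refine le_trans (Finset.card_le_card (t := ({F, tw t F} : Finset (Subgroup G))) ?_)
        Finset.card_le_two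
      intro K hK
      rw [Finset.mem_filter, hO, Finset.mem_filter, hM, mem_members] at hF hK
      obtain ⟨p, hp, hpF⟩ := hF.1.1.exists_prime
      have := (hshare hF.1.1 hK.1.1 hp hpF (by rw [hK.2, ← hF.2]; exact hpF) hF.1.2).2
      simpa using this
    have h2 : ∑ n ∈ P, 2 * (n - 1) + 2 * P.card = 2 * ∑ n ∈ P, n := by
      rw [Finset.card_eq_sum_ones, Finset.mul_sum, Finset.mul_sum, ← Finset.sum_add_distrib]
      exact Finset.sum_congr rfl fun n hn => by have := hP n hn; omega
    omega
  have hpair : (P : Set ℕ).Pairwise Nat.Coprime := by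
    intro a ha b hb hab
    refine Nat.coprime_of_dvd fun p hp hpa hpb => hab ?_
    obtain ⟨F, hF, rfl, h2⟩ := hPmem a ha
    obtain ⟨K, hK, rfl, -⟩ := hPmem b hb
    exact ((hshare hF hK hp hpa hpb h2).1).symm
  have hcopE : ∀ F ∈ E, ∀ n ∈ P, (Nat.card F).Coprime n := by
    intro F hF n hn
    rw [hE, Finset.mem_filter, hM, mem_members] at hF
    obtain ⟨K, hK, rfl, h2⟩ := hPmem n hn
    refine Nat.coprime_of_dvd fun p hp hpF hpK => h2 ?_
    rw [← (hshare hK hF.1 hp hpK hpF h2).1]
    exact hF.2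
  have hdiv : ∀ s, s.Coprime 3 → s ∣ Nat.card G → (∀ n ∈ P, s.Coprime n) →
      3 * s * ∏ n ∈ P, n ∣ Nat.card G := by
    intro s hs3 hsd hsP
    refine Nat.Coprime.mul_dvd_of_dvd_of_dvd ?_
      (Nat.Coprime.mul_dvd_of_dvd_of_dvd hs3.symm hx.three_dvd hsd) ?_
    · refine Nat.Coprime.prod_right fun n hn => Nat.Coprime.mul_left ?_ (hsP n hn)
      obtain ⟨F, hF, rfl, -⟩ := hPmem n hn
      exact Nat.prime_three.coprime_iff_not_dvd.2 hF.inv.three
    · refine Finset.prod_dvd_of_isRelPrime (fun a ha b hb hab => Nat.coprime_iff_isRelPrime.1 (hpair ha hb hab)) fun n hn => ?_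
      obtain ⟨F, hF, rfl, -⟩ := hPmem n hn
      exact card_subgroup_dvd_card F
  have hbound : Nat.card G + 1 ≤ 9 + 9 * (∑ F ∈ E, (Nat.card F - 1) + D) := by
    have : ∑ F ∈ M, (Nat.card F - 1) = ∑ F ∈ E, (Nat.card F - 1) + D :=
      (Finset.sum_filter_add_sum_filter_not M _ _).symm
    omega
  have heven2 : 2 ∣ Nat.card G := by
    have ht1 : t ≠ 1 := fun e => hx.inv_ne (by rw [← ht, e]; group)
    have := orderOf_eq_prime (by rw [pow_two, hx.sq_eq_one ht] : t ^ 2 = 1) ht1
    exact this ▸ orderOf_dvd_natCard t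
  have hmemP : ∀ n ∈ P, ∃ F, Member x F ∧ Nat.card F = n := fun n hn => by
    obtain ⟨F, hF, h, -⟩ := hPmem n hn
    exact ⟨F, hF, h⟩
  rcases E.eq_empty_or_nonempty with hE0 | ⟨F₀, hF₀⟩
  · left
    refine card_cases_not_inv hna hx ht hloc P D hP hdiv hmemP hD (fun _ _ => ?_) heven2 ?_
    · rw [hE0, Finset.sum_empty, zero_add] at hbound; exact hbound
    · intro F hF h2
      have : F ∈ E := by rw [hE, Finset.mem_filter, hM, mem_members]; exact ⟨hF, h2⟩
      rw [hE0] at this
      exact Finset.notMem_empty F this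
  have hF₀' := hF₀
  rw [hE, Finset.mem_filter, hM, mem_members] at hF₀'
  by_cases htF : tw t F₀ = F₀
  · right
    refine card_cases_inv hna hx ht hloc hconj P D hP hD E (fun F hF => ?_) ⟨F₀, hF₀⟩ hdiv hcopE hbound
    rw [hE, Finset.mem_filter, hM, mem_members] at hF
    refine ⟨hF.1, ?_, hF.2⟩
    by_contra hne
    exact hF.1.not_even_both hx ht hloc hF₀'.1 hF.2 hF₀'.2 hne htF
  · left
    have hsub : E ⊆ {F₀, tw t F₀} := by
      intro F hF
      rw [hE, Finset.mem_filter, hM, mem_members] at hF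
      have hne : tw t F ≠ F := fun e => hF₀'.1.not_even_both hx ht hloc hF.1 hF₀'.2 hF.2 htF e
      have := hF₀'.1.eq_of_shared (p := 2) hx ht hloc hF.1 hF₀'.2 hF.2 (by norm_num)
        (fun _ => htF) (fun _ => hne)
      simpa using this
    have hsum : ∑ F ∈ E, (Nat.card F - 1) ≤ 2 * (Nat.card F₀ - 1) := by
      refine (Finset.sum_le_sum_of_subset hsub).trans ?_
      rw [Finset.sum_pair (Ne.symm htF), card_tw, two_mul]
    refine card_cases_pair hna hx ht hloc P D hP hmemP hD hF₀'.1 htF
      (four_dvd_even_member hx hF₀'.1 hF₀'.2) (hcopE F₀ hF₀)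
      (hdiv _ ((Nat.prime_three.coprime_iff_not_dvd.2 hF₀'.1.inv.three).symm)
        (card_subgroup_dvd_card F₀) (hcopE F₀ hF₀)) ?_
    omega

end CfsgLib.Recog.SelfCentThree
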