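import Cfsg.Agent.Lib.Recog.SelfCentThree.LocalStructure
import Cfsg.Agent.Lib.Recog.SelfCentThree.Order
import Cfsg.Agent.Lib.Core.Nilpotent
import Cfsg.Agent.S0494
import Cfsg.Agent.S0495

/-!
# The theorem of Feit and Thompson on self-centralizing subgroups of order three
-/

open scoped Classical

set_option autoImplicit false
set_option linter.all false

namespace CfsgLib.Recog.SelfCentThree

open Subgroup

universe u

variable {G : Type u} [Group G] [Finite G] {x t : G}

theorem outcome_of_complement (hx : Setup x) (N : Subgroup G) (hN : N.Normal)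
    (h3 : ¬ 3 ∣ Nat.card N) (hidx : N.index = 3) : Outcome G :=
  Or.inl ⟨N, hN, (SInv.of_normal h3 x).isNilpotent hx,
    (Nat.prime_three.coprime_iff_not_dvd.2 h3).symm, Or.inl (by rw [← index_eq_card]; exact hidx)⟩

/-- If `⟨x⟩` is normal and inverted, then the group is `S₃`. -/
theorem outcome_of_normal (hx : Setup x) (ht : t * x * t⁻¹ = x⁻¹) (hn : (zpowers x).Normal) :
    Outcome G := by
  have ht2 := hx.sq_eq_one ht
  have ht1 : t ≠ 1 := fun e => hx.inv_ne (by rw [← ht, e]; group)
  haveI : Fact (Nat.Prime 2) := ⟨Nat.prime_two⟩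
  have hto : orderOf t = 2 := orderOf_eq_prime (by rw [pow_two, ht2]) ht1
  have htX : t ∉ zpowers x := fun h => by
    obtain ⟨i, hi⟩ := mem_zpowers_iff.1 h
    exact hx.inv_ne (by rw [← ht, ← hi]; group)
  have hidx : (zpowers x).index = 2 := by
    refine index_eq_two_iff.2 ⟨t, fun g => ?_⟩
    have hg := hn.conj_mem x (mem_zpowers x) g
    have hor : g * x * g⁻¹ = x ∨ g * x * g⁻¹ = x⁻¹ := by
      rcases hx.mem_iff.1 hg with e | e | e
      · exact absurd (conj_eq_one_iff.1 e) hx.ne_one
      · exact Or.inl e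
      · exact Or.inr (e.trans hx.inv_eq.symm)
    rcases hx.normalizer_cases ht hor with h | ⟨k, hk, rfl⟩
    · refine Or.inr ⟨h, fun hgt => htX ?_⟩
      simpa using mul_mem (inv_mem h) hgt
    · refine Or.inl ⟨?_, fun htk => htX ?_⟩
      · have := hn.conj_mem k hk t
        rwa [inv_eq_of_mul_eq_one_right ht2] at this
      · simpa using mul_mem htk (inv_mem hk)
  have hcard : Nat.card G = 6 := by
    rw [← (zpowers x).card_mul_index, hidx, hx.card_zpowers]
  set H := zpowers t with hH
  have hHi : Nat.card (G ⧸ H) = 3 := by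
    have h := H.card_mul_index
    rw [hH, Nat.card_zpowers, hto, hcard] at h
    rw [← index_eq_card, hH]
    omega
  have hinj : Function.Injective (MulAction.toPermHom G (G ⧸ H)) := by
    rw [← MonoidHom.ker_eq_bot_iff, ← normalCore_eq_ker, eq_bot_iff_forall]
    intro g hg
    have hcases : ∀ k ∈ H, k = 1 ∨ k = t := fun k hk => by
      obtain ⟨i, rfl⟩ := mem_zpowers_iff.1 hk
      rcases Int.even_or_odd i with ⟨m, rfl⟩ | ⟨m, rfl⟩
      · left; rw [← two_mul, zpow_mul, zpow_two, ht2, one_zpow]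
      · right; rw [zpow_add, zpow_mul, zpow_two, ht2, one_zpow, one_mul, zpow_one]
    rcases hcases g (normalCore_le H hg) with e | e
    · exact e
    exfalso
    have := hg x
    rw [e] at this
    rcases hcases _ this with e' | e'
    · exact ht1 (conj_eq_one_iff.1 e')
    · have h1 : t * x * t⁻¹ = x := by
        rw [mul_inv_eq_iff_eq_mul]; exact (mul_inv_eq_iff_eq_mul.1 e').symm
      exact hx.inv_ne (ht ▸ h1)
  let f : G →* Equiv.Perm (Fin 3) :=
    ((Equiv.permCongrHom (Finite.equivFinOfCardEq hHi)).toMonoidHom).comp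
      (MulAction.toPermHom G (G ⧸ H))
  have hfi : Function.Injective f :=
    (Equiv.permCongrHom (Finite.equivFinOfCardEq hHi)).injective.comp hinj
  have hfb : Function.Bijective f :=
    (Nat.bijective_iff_injective_and_card f).2 ⟨hfi, by
      rw [hcard, Nat.card_perm, Nat.card_fin]; rfl⟩
  exact Or.inl ⟨⊥, inferInstance, inferInstance, by rw [card_bot]; exact Nat.coprime_one_left _,
    Or.inr ⟨QuotientGroup.quotientBot.trans (MulEquiv.ofBijective f hfb)⟩⟩

/-- A normal subgroup containing `x` and no inverting element forces `⟨x⟩` normal, when no normal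
`3'`-subgroup is non-trivial. -/
theorem zpowers_normal (hx : Setup x) (hno : ∀ R : Subgroup G, R.Normal → ¬ 3 ∣ Nat.card R → R = ⊥)
    (R : Subgroup G) [hR : R.Normal] (hxR : x ∈ R) (hnone : ∀ s ∈ R, s * x * s⁻¹ ≠ x⁻¹) :
    (zpowers x).Normal := by
  rcases (hx.subgroup hxR).exists_inverting_or_complement with ⟨⟨s, hs⟩, hse⟩ | ⟨N, hN, hN3, hNi⟩
  · exact absurd (congrArg Subtype.val hse) (hnone s hs)
  have hnorm : (N.map R.subtype).Normal := ⟨fun n hn g => by
    obtain ⟨n, hnN, rfl⟩ := mem_map.1 hn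
    refine ⟨⟨g * n * g⁻¹, hR.conj_mem _ n.2 g⟩, ?_, rfl⟩
    set r : R := ⟨g * n * g⁻¹, hR.conj_mem _ n.2 g⟩
    have h1 : r ^ Nat.card N = 1 := Subtype.ext (by
      show (g * (n : G) * g⁻¹) ^ Nat.card N = 1
      have := congrArg (Subtype.val ∘ Subtype.val) (pow_card_eq_one' (x := (⟨n, hnN⟩ : N)))
      simp only [Function.comp_apply, SubmonoidClass.coe_pow, OneMemClass.coe_one] at this
      rw [conj_pow, this, mul_one, mul_inv_cancel])
    refine (QuotientGroup.eq_one_iff r).1 (orderOf_eq_one_iff.1 (Nat.eq_one_of_dvd_coprimes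
      ((Nat.prime_three.coprime_iff_not_dvd.2 hN3).symm) ?_ ?_))
    · exact orderOf_dvd_of_pow_eq_one (by rw [← QuotientGroup.mk_pow, h1, QuotientGroup.mk_one])
    · rw [← hNi, index_eq_card]; exact orderOf_dvd_natCard _⟩
  have hbot := hno _ hnorm (by rwa [card_map_of_injective R.subtype_injective])
  have hcN : Nat.card N = 1 := by
    rw [← card_map_of_injective (K := N) R.subtype_injective, hbot, card_bot]
  have hcR : Nat.card R = 3 := by rw [← N.card_mul_index, hcN, hNi]
  rw [eq_of_le_of_card_ge (zpowers_le.2 hxR) (by rw [hcR, hx.card_zpowers])]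
  exact hR

/-- The extension step. -/
theorem outcome_of_quotient (hx : Setup x) (R : Subgroup G) [hR : R.Normal] (hR1 : R ≠ ⊥)
    (hR3 : ¬ 3 ∣ Nat.card R)
    (hmin : ∀ S : Subgroup G, S.Normal → S ≤ R → S = ⊥ ∨ S = R) (ih : Outcome (G ⧸ R)) :
    Outcome G := by
  haveI := (SInv.of_normal hR3 x).isNilpotent hx
  haveI : Nontrivial R := (nontrivial_iff_ne_bot R).2 hR1
  have hRc : ∀ a ∈ R, ∀ b ∈ R, a * b = b * a := by
    have hz : center R ≠ ⊥ := fun h =>
      CfsgLib.Core.inf_center_ne_bot_of_isNilpotent (⊤ : Subgroup R) top_ne_bot (by rw [h, inf_bot_eq])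
    rcases hmin _ inferInstance (map_subtype_le (center R)) with h | h
    · exact absurd ((map_eq_bot_iff_of_injective _ R.subtype_injective).1 h) hz
    · intro a ha b hb
      rw [← h] at ha
      obtain ⟨a', ha', rfl⟩ := mem_map.1 ha
      exact congrArg Subtype.val (mem_center_iff.1 ha' ⟨b, hb⟩).symm
  obtain ⟨p, hp, hpR⟩ := Nat.exists_prime_and_dvd
    (fun e => hR1 (Subgroup.card_eq_one.1 e) : Nat.card R ≠ 1)
  haveI := Fact.mk hp
  have hpow : ∀ r ∈ R, r ^ p = 1 := by
    let S : Subgroup G :=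
      { carrier := {r | r ∈ R ∧ r ^ p = 1}
        one_mem' := ⟨one_mem R, one_pow p⟩
        mul_mem' := fun {a b} ha hb => ⟨mul_mem ha.1 hb.1, by
          rw [(show Commute a b from hRc a ha.1 b hb.1).mul_pow, ha.2, hb.2, one_mul]⟩
        inv_mem' := fun {a} ha => ⟨inv_mem ha.1, by rw [inv_pow, ha.2, inv_one]⟩ }
    have hSn : S.Normal := ⟨fun r hr g => ⟨hR.conj_mem r hr.1 g, by
      rw [conj_pow, hr.2, mul_one, mul_inv_cancel]⟩⟩
    obtain ⟨z, hz⟩ := exists_prime_orderOf_dvd_card' p hpR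
    rcases hmin S hSn (fun r hr => hr.1) with h | h
    · exfalso
      have hzS : (z : G) ∈ S := ⟨z.2, by
        have := congrArg Subtype.val (hz ▸ pow_orderOf_eq_one z : z ^ p = 1)
        simpa using this⟩
      rw [h, mem_bot] at hzS
      rw [show z = 1 from Subtype.ext hzS, orderOf_one] at hz
      exact hp.one_lt.ne hz
    · exact fun r hr => (h.symm ▸ hr : r ∈ S).2
  have hRp : IsPGroup p R := fun r => ⟨1, Subtype.ext (by simpa using hpow r r.2)⟩
  have hker3 : ¬ 3 ∣ Nat.card (QuotientGroup.mk' R).ker := by rwa [QuotientGroup.ker_mk']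
  -- a kernel of a map that kills `R` and is prime to three
  have h3' : ∀ {Q : Type u} [Group Q] [Finite Q] (τ : G ⧸ R →* Q), ¬ 3 ∣ Nat.card τ.ker →
      ¬ 3 ∣ Nat.card (τ.comp (QuotientGroup.mk' R)).ker := by
    intro Q _ _ τ hτ h
    haveI := Fact.mk Nat.prime_three
    obtain ⟨z, hz⟩ := exists_prime_orderOf_dvd_card' 3 h
    rw [← Subgroup.orderOf_coe] at hz
    have hzk : (QuotientGroup.mk' R) (z : G) ∈ τ.ker := z.2
    have h1 : (QuotientGroup.mk' R) (z : G) = 1 := by
      rw [← orderOf_eq_one_iff]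
      refine Nat.eq_one_of_dvd_coprimes ((Nat.prime_three.coprime_iff_not_dvd.2 hτ).symm)
        (Subgroup.orderOf_dvd_natCard _ hzk) ?_
      exact hz ▸ orderOf_map_dvd _ _
    exact hR3 (hz ▸ Subgroup.orderOf_dvd_natCard R ((QuotientGroup.eq_one_iff _).1 h1))
  rcases ih with ⟨N', hN', -, hcop, hQ⟩ | ⟨N', hN', -, hsq, ⟨e⟩⟩ | ⟨⟨e⟩⟩
  · set σ := (QuotientGroup.mk' N').comp (QuotientGroup.mk' R) with hσ
    have hσs : Function.Surjective σ :=
      (QuotientGroup.mk'_surjective _).comp (QuotientGroup.mk'_surjective _)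
    have h3 : ¬ 3 ∣ Nat.card σ.ker := by
      refine h3' _ ?_
      rw [QuotientGroup.ker_mk']
      exact fun h => absurd (Nat.dvd_gcd h (dvd_refl 3)) (by rw [hcop]; norm_num)
    set eσ := QuotientGroup.quotientKerEquivOfSurjective σ hσs
    refine Or.inl ⟨σ.ker, inferInstance, (SInv.of_normal h3 x).isNilpotent hx,
      (Nat.prime_three.coprime_iff_not_dvd.2 h3).symm, ?_⟩
    rcases hQ with h | ⟨⟨f⟩⟩
    · exact Or.inl ((Nat.card_congr eσ.toEquiv).trans h)
    · exact Or.inr ⟨eσ.trans f⟩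
  · set τ := e.toMonoidHom.comp (QuotientGroup.mk' N') with hτ
    set σ := τ.comp (QuotientGroup.mk' R) with hσ
    have hσs : Function.Surjective σ :=
      (e.surjective.comp (QuotientGroup.mk'_surjective _)).comp (QuotientGroup.mk'_surjective _)
    have hτker : ∀ q ∈ τ.ker, q * q = 1 := fun q hq => by
      rw [← pow_two]
      refine hsq q ((QuotientGroup.eq_one_iff q).1 (e.injective ?_))
      rw [map_one]
      exact hq
    have h3 : ¬ 3 ∣ Nat.card σ.ker := by
      intro h
      haveI := Fact.mk Nat.prime_three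
      obtain ⟨z, hz⟩ := exists_prime_orderOf_dvd_card' 3 h
      rw [← Subgroup.orderOf_coe] at hz
      have h1 : (QuotientGroup.mk' R) (z : G) = 1 := by
        rw [← orderOf_eq_one_iff]
        refine Nat.eq_one_of_dvd_coprimes (show Nat.Coprime 2 3 by norm_num)
          (orderOf_dvd_of_pow_eq_one (by rw [pow_two]; exact hτker _ z.2)) ?_
        exact hz ▸ orderOf_map_dvd _ _
      exact hR3 (hz ▸ Subgroup.orderOf_dvd_natCard R ((QuotientGroup.eq_one_iff _).1 h1))
    have hRker : R ≤ σ.ker := fun r hr => by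
      rw [MonoidHom.mem_ker, hσ, MonoidHom.comp_apply, QuotientGroup.mk'_apply,
        (QuotientGroup.eq_one_iff r).2 hr, map_one]
    haveI := (SInv.of_normal h3 x).isNilpotent hx
    have hcomm : ∀ r ∈ R, ∀ k ∈ σ.ker, k * r = r * k := by
      have hne : R.subgroupOf σ.ker ≠ ⊥ := fun h => hR1 (Subgroup.card_eq_one.1 (by
        rw [← Nat.card_congr (subgroupOfEquivOfLe hRker).toEquiv, h, card_bot]))
      have hi := CfsgLib.Core.inf_center_ne_bot_of_isNilpotent _ hne
      obtain ⟨z, hz, hz1⟩ := (Subgroup.ne_bot_iff_exists_ne_one).1 hi |> fun ⟨z, hz⟩ =>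
        (⟨z.1, z.2, fun e => hz (Subtype.ext e)⟩ : ∃ z, z ∈ R.subgroupOf σ.ker ⊓ center σ.ker ∧ z ≠ 1)
      rcases hmin (R ⊓ centralizer (σ.ker : Set G)) inferInstance inf_le_left with h | h
      · exfalso
        refine hz1 (Subtype.ext (Subgroup.mem_bot.1 (h ▸ mem_inf.2 ⟨hz.1, ?_⟩)))
        exact mem_centralizer_iff.2 fun k hk => congrArg Subtype.val (mem_center_iff.1 hz.2 ⟨k, hk⟩)
      · intro r hr k hk
        rw [← h] at hr
        exact mem_centralizer_iff.1 hr.2 k hk
    have hp2 : p = 2 := by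
      by_contra hne
      refine hR1 (module_trivial_five hx σ hσs h3 R hR3 hRc hcomm fun h2 => hne ?_)
      obtain ⟨n, hn⟩ := IsPGroup.iff_card.1 hRp
      exact ((Nat.prime_dvd_prime_iff_eq Nat.prime_two hp).1
        (Nat.prime_two.dvd_of_dvd_pow (hn ▸ h2))).symm
    subst hp2
    have hσ2 : IsPGroup 2 σ.ker := fun n => ⟨2, Subtype.ext (by
      have h1 : (QuotientGroup.mk' R) ((n : G) * n) = 1 := by rw [map_mul]; exact hτker _ n.2
      have := hpow _ ((QuotientGroup.eq_one_iff _).1 h1)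
      rw [SubmonoidClass.coe_pow, show 2 ^ 2 = 2 * 2 by norm_num, pow_mul, pow_two (n : G)]
      exact this)⟩
    set eσ := QuotientGroup.quotientKerEquivOfSurjective σ hσs
    have helem := elementary_of_alt_five hx σ.ker hσ2 eσ
    refine Or.inr (Or.inl ⟨σ.ker, inferInstance, ⟨⟨fun a b => Subtype.ext ?_⟩⟩,
      fun n hn => by rw [pow_two]; exact helem n hn, ⟨eσ⟩⟩)
    have hinv : ∀ n ∈ σ.ker, n⁻¹ = n := fun n hn => inv_eq_of_mul_eq_one_right (helem n hn)
    show (a : G) * b = b * a
    rw [← hinv _ (mul_mem a.2 b.2), _root_.mul_inv_rev, hinv _ a.2, hinv _ b.2]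
  · exfalso
    set σ := e.toMonoidHom.comp (QuotientGroup.mk' R) with hσ
    have hσs : Function.Surjective σ := e.surjective.comp (QuotientGroup.mk'_surjective _)
    have hk : σ.ker = R := by
      ext g
      simp [hσ, MonoidHom.mem_ker]
    obtain ⟨n, hn⟩ := IsPGroup.iff_card.1 hRp
    refine hR1 (module_trivial_seven hx σ hσs (by rwa [hk]) R hR3 hRc
      (fun r hr k hk' => hRc k (hk ▸ hk') r hr) ?_)
    rw [hn]
    by_cases h7 : p = 7
    · subst h7
      exact Or.inr (Nat.Coprime.pow_left _ (by norm_num))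
    · exact Or.inl (Nat.Coprime.pow_left _ ((Nat.coprime_primes hp (by norm_num)).2 h7))

/-- The theorem of Feit and Thompson. -/
theorem outcome : ∀ (n : ℕ) {G : Type u} [Group G] [Finite G] {x : G}, Setup x → Nat.card G ≤ n →
    Outcome G := by
  intro n
  induction n with
  | zero => exact fun _ h => absurd (Nat.le_zero.1 h) Nat.card_pos.ne'
  | succ n ih =>
    intro G _ _ x hx hcard
    rcases hx.exists_inverting_or_complement with ⟨t, ht⟩ | ⟨N, hN, h3, hi⟩
    swap
    · exact outcome_of_complement hx N hN h3 hi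
    have hproper : ∀ K : Subgroup G, K ≠ ⊤ → x ∈ K → Outcome K := fun K hK hxK =>
      ih (hx.subgroup hxK) (by
        have h1 : Nat.card K < Nat.card G := by
          by_contra hle
          exact hK (eq_top_of_le_card K (not_lt.1 hle))
        omega)
    by_cases hno : ∀ R : Subgroup G, R.Normal → ¬ 3 ∣ Nat.card R → R = ⊥
    swap
    · push Not at hno
      obtain ⟨R₀, hR₀⟩ := hno
      obtain ⟨R, -, ⟨⟨hRn, hR3, hR1⟩, hmin⟩⟩ :=
        (Set.toFinite {R : Subgroup G | R.Normal ∧ ¬ 3 ∣ Nat.card R ∧ R ≠ ⊥}).exists_le_minimal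
          (a := R₀) hR₀
      haveI := hRn
      refine outcome_of_quotient hx R hR1 hR3 (fun S hS hle => ?_) ?_
      · by_cases h : S = ⊥
        · exact Or.inl h
        · exact Or.inr (le_antisymm hle
            (hmin ⟨hS, fun h3 => hR3 (h3.trans (card_dvd_of_le hle)), h⟩ hle))
      · refine ih (hx.map (QuotientGroup.mk' R) (QuotientGroup.mk'_surjective R)
          (by rwa [QuotientGroup.ker_mk'])) ?_
        have h1 : Nat.card (G ⧸ R) < Nat.card G := by
          rw [Subgroup.card_eq_card_quotient_mul_card_subgroup R]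
          refine lt_mul_of_one_lt_right Nat.card_pos ?_
          exact (one_lt_card_iff_ne_bot R).2 hR1
        omega
    have hmem : ∀ R : Subgroup G, R.Normal → R ≠ ⊥ → x ∈ R := by
      intro R hR hR1
      have h3 : 3 ∣ Nat.card R := not_not.1 fun h => hR1 (hno R hR h)
      haveI := Fact.mk Nat.prime_three
      obtain ⟨z, hz⟩ := exists_prime_orderOf_dvd_card' 3 h3
      rw [← Subgroup.orderOf_coe] at hz
      rcases hx.isConj_or hz with h | h <;> obtain ⟨c, hc⟩ := isConj_iff.1 h
      · have := hR.conj_mem _ z.2 c⁻¹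
        rw [← hc] at this
        simpa [mul_assoc] using this
      · have := inv_mem (hR.conj_mem _ z.2 c⁻¹)
        rw [← hc] at this
        simpa [mul_assoc] using this
    haveI : Nontrivial G := ⟨⟨x, 1, hx.ne_one⟩⟩
    by_cases hsimple : ∀ R : Subgroup G, R.Normal → R = ⊥ ∨ R = ⊤
    · haveI : IsSimpleGroup G := { eq_bot_or_eq_top_of_normal := hsimple }
      haveI : Fact (Nat.Prime 2) := ⟨Nat.prime_two⟩
      have hna : ¬ IsMulCommutative G := fun h => hx.inv_ne (by
        rw [← ht, h.1.comm t x]; group)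
      rcases card_cases hna hx ht (local_of_outcome hx ht hproper) with h | h
      · obtain ⟨e⟩ := Cfsg.Agent.S0494.result h
        refine Or.inr (Or.inl ⟨⊥, inferInstance, inferInstance, fun n hn => ?_,
          ⟨QuotientGroup.quotientBot.trans e⟩⟩)
        rw [Subgroup.mem_bot.1 hn, one_pow]
      · haveI : Fact (Nat.Prime 7) := ⟨by norm_num⟩
        exact Or.inr (Or.inr (Cfsg.Agent.S0495.result h (ZMod.card 7)))
    push Not at hsimple
    obtain ⟨R, hR, hR1, hRt⟩ := hsimple
    haveI := hR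
    refine outcome_of_normal hx ht (zpowers_normal hx hno R (hmem R hR hR1) fun s hs hse => hRt ?_)
    have hxR := hmem R hR hR1
    refine eq_top_iff.2 fun g _ => ?_
    have ho : orderOf (g * x * g⁻¹) = 3 := by
      rw [← MulAut.conj_apply, MulEquiv.orderOf_eq, hx.order]
    rcases (hx.subgroup hxR).isConj_or (g := (⟨g * x * g⁻¹, hR.conj_mem x hxR g⟩ : R))
        (by rw [Subgroup.orderOf_mk]; exact ho) with h | h <;>
      obtain ⟨⟨c, hc⟩, hce⟩ := isConj_iff.1 h <;>
      · have hce' := congrArg Subtype.val hce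
        simp only [Subgroup.coe_mul, Subgroup.coe_inv] at hce'
        have hk : c⁻¹ * g * x * (c⁻¹ * g)⁻¹ = x ∨ c⁻¹ * g * x * (c⁻¹ * g)⁻¹ = x⁻¹ := by
          rw [show c⁻¹ * g * x * (c⁻¹ * g)⁻¹ = c⁻¹ * (g * x * g⁻¹) * c by group, ← hce']
          simp [mul_assoc]
        have hm : c⁻¹ * g ∈ R := by
          rcases hx.normalizer_cases hse hk with h' | ⟨k, hk', h'⟩
          · exact zpowers_le.2 hxR h'
          · rw [h']; exact mul_mem hs (zpowers_le.2 hxR hk')
        simpa using mul_mem hc hm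

end CfsgLib.Recog.SelfCentThree
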