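import Mathlib
import Cfsg.Agent.Lib.Classical.SmallIso
import Cfsg.Agent.Lib.Recog.PrimeGraph

/-!
# Facts on `A₅` for the self-centralizing element of order three
-/

set_option autoImplicit false
set_option linter.all false
set_option maxRecDepth 100000

namespace CfsgLib.Recog.SelfCentThree

open Equiv

local notation "A5" => alternatingGroup (Fin 5)

/-- The three-cycle `(0 1 2)`. -/
def fy : A5 := ⟨swap 0 1 * swap 1 2, Equiv.Perm.mem_alternatingGroup.mpr (by decide +kernel)⟩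

/-- The involution `(0 1)(2 3)`. -/
def fa : A5 := ⟨swap 0 1 * swap 2 3, Equiv.Perm.mem_alternatingGroup.mpr (by decide +kernel)⟩

/-- The involution `(0 3)(1 2)`. -/
def fb : A5 := ⟨swap 0 3 * swap 1 2, Equiv.Perm.mem_alternatingGroup.mpr (by decide +kernel)⟩

/-- A four-group normalized by `fy`. -/
def fV : Finset A5 := {1, fa, fb, fa * fb}

theorem fV_mul : ∀ p ∈ fV, ∀ q ∈ fV, p * q ∈ fV := by decide +kernel

theorem fV_inv : ∀ p ∈ fV, p⁻¹ ∈ fV := by decide +kernel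

/-- The four-group as a subgroup. -/
def fVSub : Subgroup A5 where
  carrier := ↑fV
  one_mem' := by simp [fV]
  mul_mem' hp hq := fV_mul _ hp _ hq
  inv_mem' hp := fV_inv _ hp

theorem mem_fVSub {h : A5} : h ∈ fVSub ↔ h ∈ fV := Iff.rfl

theorem card_fVSub : Nat.card fVSub = 4 := by
  have : Nat.card ((fV : Set A5) : Type _) = 4 := by
    rw [Nat.card_coe_set_eq, Set.ncard_coe_finset]
    decide +kernel
  exact this

theorem fy_facts : fy * fy * fy = 1 ∧ fy ≠ 1 ∧ fa * fa = 1 ∧ fb * fb = 1 ∧ fa * fb = fb * fa ∧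
    fy * fa * fy⁻¹ = fb ∧ fy * fb * fy⁻¹ = fa * fb ∧ fa ≠ 1 := by decide +kernel

theorem fy_norm : ∀ p ∈ fV, fy * p * fy⁻¹ ∈ fV ∧ fy⁻¹ * p * fy ∈ fV := by decide +kernel

theorem fV_sq : ∀ p ∈ fV, p * p = 1 := by decide +kernel

theorem exists_conj_fy : ∀ y : A5, y * y * y = 1 → y ≠ 1 → ∃ c : A5, c * y * c⁻¹ = fy := by
  decide +kernel

theorem exists_invert_fy : ∃ τ : A5, τ * fy * τ⁻¹ = fy⁻¹ := by decide +kernel

theorem good_cases : ∀ τ : A5, τ * fy * τ⁻¹ = fy⁻¹ → ∀ h : A5, h * h * h ≠ 1 ∨ h = 1 →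
    h * (fy * h * fy⁻¹) = fy * h * fy⁻¹ * h → h ∈ fV ∨ τ * h * τ⁻¹ ∈ fV := by
  decide +kernel

theorem good_incompatible : ∀ τ : A5, τ * fy * τ⁻¹ = fy⁻¹ → ∀ h ∈ fV, ∀ h' : A5, τ * h' * τ⁻¹ ∈ fV →
    (h * h' ∈ fV ∨ τ * (h * h') * τ⁻¹ ∈ fV) → τ * h * τ⁻¹ ∈ fV ∨ h' ∈ fV := by
  decide +kernel

/-- `A₅ ≅ SL(2, 4)`. -/
theorem exists_sl_two_four :
    ∃ (F : Type) (_ : Field F) (_ : Fintype F) (_ : CharP F 2), Fintype.card F = 4 ∧
      Nonempty (alternatingGroup (Fin 5) ≃* Matrix.SpecialLinearGroup (Fin 2) F) := by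
  classical
  haveI : Fact (Nat.Prime 2) := ⟨Nat.prime_two⟩
  letI := Fintype.ofFinite (GaloisField 2 2)
  have hc : Fintype.card (GaloisField 2 2) = 4 := by
    rw [← Nat.card_eq_fintype_card, GaloisField.card 2 2 (by norm_num)]
    norm_num
  refine ⟨GaloisField 2 2, inferInstance, inferInstance, inferInstance, hc, ?_⟩
  have h := CfsgLib.Classical.Two.card_PSL_two (F := GaloisField 2 2)
  rw [hc, show Nat.gcd 2 (4 - 1) = 1 by decide, one_mul] at h
  obtain ⟨e⟩ := CfsgLib.Classical.Two.psl_two_equiv_alternating (F := GaloisField 2 2) (k := 5)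
    (by norm_num) (by rw [hc]) (by rw [h]; norm_num [Nat.factorial])
  obtain ⟨e'⟩ := CfsgLib.Recog.AffineTwo.psl_equiv_sl (GaloisField 2 2)
  exact ⟨e.symm.trans e'⟩

end CfsgLib.Recog.SelfCentThree
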