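import Cfsg.Agent.Lib.Core.FPF
import Cfsg.Agent.Lib.Core.FPFSymThreeBasic
import Cfsg.Agent.Lib.OddLocal.NonKappa
import Mathlib.GroupTheory.Transfer
import Mathlib.Tactic

/-!
# Self-centralizing elements of order three: basic facts

`Setup x`: `x` has order three and is centralized only by its powers. `SInv x H`: `H` is a subgroup
of order prime to three normalized by `x`; such a subgroup is nilpotent and every element commutes
with its image under `x` and with its conjugates.
-/

set_option autoImplicit false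
set_option linter.all false

namespace CfsgLib.Recog.SelfCentThree

open Subgroup

variable {G : Type*} [Group G]

/-- `x` has order three and its centralizer is generated by `x`. -/
structure Setup (x : G) : Prop where
  order : orderOf x = 3
  cent : ∀ g : G, g * x = x * g → g ∈ zpowers x

/-- `H` has order prime to three and is normalized by `x`. -/
structure SInv (x : G) (H : Subgroup G) : Prop where
  norm : x ∈ normalizer (H : Set G)
  three : ¬ 3 ∣ Nat.card H

variable {x : G}

theorem Setup.cube (hx : Setup x) : x * x * x = 1 := by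
  have h := pow_orderOf_eq_one x
  rwa [hx.order, pow_succ, pow_two] at h

theorem Setup.ne_one (hx : Setup x) : x ≠ 1 := fun h => by
  have := hx.order
  rw [h, orderOf_one] at this
  omega

theorem Setup.inv_eq (hx : Setup x) : x⁻¹ = x * x :=
  inv_eq_of_mul_eq_one_left hx.cube

theorem Setup.sq_ne (hx : Setup x) : x * x ≠ 1 := fun h => hx.ne_one (by
  have := hx.cube
  rwa [h, one_mul] at this)

theorem Setup.inv_ne (hx : Setup x) : x⁻¹ ≠ x := fun h => hx.sq_ne (by
  calc x * x = x⁻¹ * x := by rw [h]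
    _ = 1 := inv_mul_cancel x)

theorem Setup.card_zpowers (hx : Setup x) : Nat.card (zpowers x) = 3 := by
  rw [Nat.card_zpowers, hx.order]

theorem Setup.mem_iff (hx : Setup x) {g : G} : g ∈ zpowers x ↔ g = 1 ∨ g = x ∨ g = x * x := by
  refine ⟨fun h => ?_, ?_⟩
  · obtain ⟨k, rfl⟩ := mem_zpowers_iff.1 h
    rw [← zpow_mod_orderOf x k, hx.order]
    have h1 : (0 : ℤ) ≤ k % (3 : ℕ) := Int.emod_nonneg _ (by norm_num)
    have h2 : k % (3 : ℕ) < 3 := Int.emod_lt_of_pos _ (by norm_num)
    rcases (by omega : k % (3 : ℕ) = 0 ∨ k % (3 : ℕ) = 1 ∨ k % (3 : ℕ) = 2) with e | e | e <;> rw [e]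
    · exact Or.inl (zpow_zero x)
    · exact Or.inr (Or.inl (zpow_one x))
    · exact Or.inr (Or.inr (zpow_two x))
  · rintro (rfl | rfl | rfl)
    · exact one_mem _
    · exact mem_zpowers g
    · exact mul_mem (mem_zpowers x) (mem_zpowers x)

theorem Setup.card_centralizer (hx : Setup x) : Nat.card (centralizer ({x} : Set G)) = 3 := by
  rw [← hx.card_zpowers]
  congr 2
  refine le_antisymm (fun g hg => hx.cent g (mem_centralizer_singleton_iff.1 hg))
    (zpowers_le.2 (mem_centralizer_singleton_iff.2 rfl))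

theorem Setup.map_equiv {H : Type*} [Group H] (hx : Setup x) (e : G ≃* H) : Setup (e x) where
  order := by rw [← hx.order]; exact orderOf_injective e.toMonoidHom e.injective x
  cent g hg := by
    have h : e.symm g * x = x * e.symm g := e.injective (by simp [hg])
    obtain ⟨k, hk⟩ := mem_zpowers_iff.1 (hx.cent _ h)
    exact mem_zpowers_iff.2 ⟨k, by rw [← map_zpow, hk, e.apply_symm_apply]⟩

theorem Setup.subgroup (hx : Setup x) {K : Subgroup G} (hxK : x ∈ K) : Setup (⟨x, hxK⟩ : K) where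
  order := by rw [← hx.order, Subgroup.orderOf_mk]
  cent g hg := by
    obtain ⟨k, hk⟩ := mem_zpowers_iff.1 (hx.cent g.1 (congrArg Subtype.val hg))
    exact mem_zpowers_iff.2 ⟨k, Subtype.ext (by rw [Subgroup.coe_zpow, hk])⟩

theorem Setup.conj (hx : Setup x) (c : G) : Setup (c * x * c⁻¹) := hx.map_equiv (MulAut.conj c)

theorem Setup.inv (hx : Setup x) : Setup x⁻¹ where
  order := by rw [orderOf_inv, hx.order]
  cent g hg := by
    rw [Subgroup.zpowers_inv]
    refine hx.cent g ?_
    have := congrArg (fun a => x * a * x) hg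
    simpa [mul_assoc] using this.symm

section Finite

variable [Finite G]

theorem Setup.three_dvd (hx : Setup x) : 3 ∣ Nat.card G := hx.order ▸ orderOf_dvd_natCard x

/-- A `3`-subgroup containing `x` is generated by `x`. -/
theorem Setup.three_group_eq (hx : Setup x) {P : Subgroup G} (hP : IsPGroup 3 P) (hxP : x ∈ P) :
    P = zpowers x := by
  haveI : Fact (Nat.Prime 3) := ⟨Nat.prime_three⟩
  haveI : Nontrivial P := ⟨⟨⟨x, hxP⟩, 1, fun e => hx.ne_one (congrArg Subtype.val e)⟩⟩
  haveI := hP.center_nontrivial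
  obtain ⟨z, hz⟩ := exists_ne (1 : center P)
  have hzX : (z.1 : G) ∈ zpowers x :=
    hx.cent _ (congrArg Subtype.val (mem_center_iff.1 z.2 ⟨x, hxP⟩)).symm
  have hz1 : (z.1 : G) ≠ 1 := fun e => hz (Subtype.ext (Subtype.ext e))
  refine le_antisymm (fun g hg => hx.cent g ?_) (zpowers_le.2 hxP)
  have hgz : g * (z.1 : G) = (z.1 : G) * g := congrArg Subtype.val (mem_center_iff.1 z.2 ⟨g, hg⟩)
  rcases hx.mem_iff.1 hzX with e | e | e
  · exact absurd e hz1
  · rwa [e] at hgz
  · rw [e, ← hx.inv_eq] at hgz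
    have := congrArg (fun a => x * a * x) hgz
    simpa [mul_assoc] using this.symm

/-- `⟨x⟩` is a Sylow `3`-subgroup. -/
theorem Setup.exists_sylow (hx : Setup x) : ∃ P : Sylow 3 G, (P : Subgroup G) = zpowers x := by
  haveI : Fact (Nat.Prime 3) := ⟨Nat.prime_three⟩
  have hp : IsPGroup 3 (zpowers x) := IsPGroup.of_card (n := 1) (by rw [hx.card_zpowers, pow_one])
  obtain ⟨P, hP⟩ := hp.exists_le_sylow
  exact ⟨P, hx.three_group_eq P.2 (hP (mem_zpowers x))⟩

theorem Setup.not_nine_dvd (hx : Setup x) : ¬ 9 ∣ Nat.card G := by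
  haveI : Fact (Nat.Prime 3) := ⟨Nat.prime_three⟩
  obtain ⟨P, hP⟩ := hx.exists_sylow
  intro h
  have h3 : 3 ∣ (P : Subgroup G).index := by
    have hm := (P : Subgroup G).card_mul_index
    rw [show Nat.card (P : Subgroup G) = 3 by rw [hP, hx.card_zpowers]] at hm
    omega
  exact P.not_dvd_index h3

/-- Every element of order three is conjugate to `x` or `x⁻¹`. -/
theorem Setup.isConj_or (hx : Setup x) {g : G} (hg : orderOf g = 3) :
    IsConj x g ∨ IsConj x⁻¹ g := by
  haveI : Fact (Nat.Prime 3) := ⟨Nat.prime_three⟩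
  obtain ⟨P, hP⟩ := hx.exists_sylow
  have hgp : IsPGroup 3 (zpowers g) :=
    IsPGroup.of_card (n := 1) (by rw [Nat.card_zpowers, hg, pow_one])
  obtain ⟨Q, hQ⟩ := hgp.exists_le_sylow
  obtain ⟨c, hc⟩ := MulAction.exists_smul_eq G P Q
  have hgQ : g ∈ ((c • P : Sylow 3 G) : Subgroup G) := hc.symm ▸ hQ (mem_zpowers g)
  rw [Sylow.coe_subgroup_smul, Subgroup.mem_pointwise_smul_iff_inv_smul_mem, hP,
    ← map_inv, MulAut.smul_def, MulAut.conj_apply, inv_inv] at hgQ
  rcases hx.mem_iff.1 hgQ with e | e | e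
  · exfalso
    have : g = 1 := by
      calc g = c * (c⁻¹ * g * c) * c⁻¹ := by group
        _ = 1 := by rw [e]; group
    rw [this, orderOf_one] at hg
    omega
  · exact Or.inl (isConj_iff.2 ⟨c, by rw [← e]; group⟩)
  · exact Or.inr (isConj_iff.2 ⟨c, by rw [hx.inv_eq, ← e]; group⟩)

/-- An element of order three has no centralizer beyond its powers. -/
theorem Setup.of_order (hx : Setup x) {g : G} (hg : orderOf g = 3) : Setup g := by
  rcases hx.isConj_or hg with h | h <;> obtain ⟨c, rfl⟩ := isConj_iff.1 h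
  · exact hx.conj c
  · exact hx.inv.conj c

/-- An element that maps `x` to `x⁻¹` is an involution. -/
theorem Setup.sq_eq_one (hx : Setup x) {t : G} (ht : t * x * t⁻¹ = x⁻¹) : t * t = 1 := by
  have h2 : (t * t) * x = x * (t * t) := by
    have h' : t * x⁻¹ * t⁻¹ = x := by
      calc t * x⁻¹ * t⁻¹ = (t * x * t⁻¹)⁻¹ := by group
        _ = x := by rw [ht, inv_inv]
    calc (t * t) * x = t * (t * x * t⁻¹) * t := by group
      _ = (t * x⁻¹ * t⁻¹) * (t * t) := by rw [ht]; group
      _ = x * (t * t) := by rw [h']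
  rcases hx.mem_iff.1 (hx.cent _ h2) with e | e | e
  · exact e
  · exfalso
    apply hx.inv_ne
    rw [← ht, ← e]
    group
  · exfalso
    apply hx.inv_ne
    have hxt : x = (t * t)⁻¹ := by rw [e, ← hx.inv_eq, inv_inv]
    rw [← ht, hxt]
    group

/-- The normalizer of `⟨x⟩`. -/
theorem Setup.normalizer_cases (hx : Setup x) {t : G} (ht : t * x * t⁻¹ = x⁻¹) {g : G}
    (hg : g * x * g⁻¹ = x ∨ g * x * g⁻¹ = x⁻¹) :
    g ∈ zpowers x ∨ ∃ k ∈ zpowers x, g = t * k := by
  rcases hg with e | e
  · exact Or.inl (hx.cent g (mul_inv_eq_iff_eq_mul.1 e))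
  · refine Or.inr ⟨t⁻¹ * g, hx.cent _ ?_, by group⟩
    have h1 : t⁻¹ * x⁻¹ * t = x := by rw [← ht]; group
    calc t⁻¹ * g * x = t⁻¹ * (g * x * g⁻¹) * g := by group
      _ = (t⁻¹ * x⁻¹ * t) * (t⁻¹ * g) := by rw [e]; group
      _ = x * (t⁻¹ * g) := by rw [h1]

/-- Without an inverting element there is a normal `3`-complement. -/
theorem Setup.exists_inverting_or_complement (hx : Setup x) :
    (∃ t : G, t * x * t⁻¹ = x⁻¹) ∨
      ∃ N : Subgroup G, N.Normal ∧ ¬ 3 ∣ Nat.card N ∧ N.index = 3 := by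
  haveI : Fact (Nat.Prime 3) := ⟨Nat.prime_three⟩
  by_cases h : ∃ t : G, t * x * t⁻¹ = x⁻¹
  · exact Or.inl h
  obtain ⟨P, hP⟩ := hx.exists_sylow
  have hP' : normalizer ((P : Subgroup G) : Set G) ≤ centralizer ((P : Subgroup G) : Set G) := by
    intro g hg
    rw [hP] at hg ⊢
    have hgx := (mem_normalizer_iff.1 hg x).1 (mem_zpowers x)
    have hfix : g * x * g⁻¹ = x := by
      rcases hx.mem_iff.1 hgx with e | e | e
      · exact absurd (conj_eq_one_iff.1 e) hx.ne_one
      · exact e
      · exact absurd ⟨g, e.trans hx.inv_eq.symm⟩ h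
    rw [mem_centralizer_iff]
    intro y hy
    obtain ⟨k, rfl⟩ := mem_zpowers_iff.1 hy
    exact ((Commute.zpow_right (mul_inv_eq_iff_eq_mul.1 hfix : Commute g x) k).eq).symm
  refine Or.inr ⟨(MonoidHom.transferSylow P hP').ker, inferInstance,
    MonoidHom.not_dvd_card_ker_transferSylow P hP', ?_⟩
  have := (MonoidHom.ker_transferSylow_isComplement' P hP').symm.index_eq_card
  rw [this, hP, hx.card_zpowers]

theorem SInv.fpf (hx : Setup x) {H : Subgroup G} (hH : SInv x H) {h : G} (hh : h ∈ H)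
    (hc : h * x = x * h) : h = 1 := by
  rw [← orderOf_eq_one_iff]
  refine Nat.eq_one_of_dvd_coprimes
    ((Nat.prime_three.coprime_iff_not_dvd.2 hH.three).symm) (Subgroup.orderOf_dvd_natCard H hh) ?_
  rw [← hx.card_zpowers]
  exact Subgroup.orderOf_dvd_natCard _ (hx.cent h hc)

theorem SInv.disjoint (hx : Setup x) {H : Subgroup G} (hH : SInv x H) :
    H ⊓ centralizer ({x} : Set G) = ⊥ :=
  (eq_bot_iff_forall _).2 fun _ hh => hH.fpf hx hh.1 (mem_centralizer_singleton_iff.1 hh.2)

theorem SInv.conj_mem {H : Subgroup G} (hH : SInv x H) {h : G} (hh : h ∈ H) : x * h * x⁻¹ ∈ H :=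
  (mem_normalizer_iff.1 hH.norm h).1 hh

theorem SInv.conj_mem' {H : Subgroup G} (hH : SInv x H) {h : G} (hh : h ∈ H) : x⁻¹ * h * x ∈ H :=
  (mem_normalizer_iff'' (H := H)).1 hH.norm h |>.1 hh

theorem SInv.isNilpotent (hx : Setup x) {H : Subgroup G} (hH : SInv x H) : Group.IsNilpotent H := by
  haveI : Fact (Nat.Prime 3) := ⟨Nat.prime_three⟩
  exact CfsgLib.OddLocal.NonKappa.isNilpotent_of_fpf_elem hx.order hH.norm (hH.disjoint hx)

/-- Conjugation by `x` as an automorphism of an invariant subgroup. -/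
noncomputable def SInv.aut {H : Subgroup G} (hH : SInv x H) : MulAut H :=
  H.normalizerMonoidHom ⟨x, hH.norm⟩

omit [Finite G] in
theorem SInv.aut_apply {H : Subgroup G} (hH : SInv x H) (h : H) :
    (hH.aut h : G) = x * h * x⁻¹ := rfl

omit [Finite G] in
theorem SInv.aut_cube (hx : Setup x) {H : Subgroup G} (hH : SInv x H) (h : H) :
    hH.aut (hH.aut (hH.aut h)) = h := by
  refine Subtype.ext ?_
  rw [hH.aut_apply, hH.aut_apply, hH.aut_apply]
  calc x * (x * (x * (h : G) * x⁻¹) * x⁻¹) * x⁻¹ = (x * x * x) * h * (x * x * x)⁻¹ := by group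
    _ = h := by rw [hx.cube, one_mul, inv_one, mul_one]

theorem SInv.aut_fixed (hx : Setup x) {H : Subgroup G} (hH : SInv x H) (h : H)
    (hh : hH.aut h = h) : h = 1 :=
  Subtype.ext (hH.fpf hx h.2
    (mul_inv_eq_iff_eq_mul.1 (congrArg Subtype.val hh : x * (h : G) * x⁻¹ = h)).symm)

/-- An element commutes with its image under `x`. -/
theorem SInv.commute_self (hx : Setup x) {H : Subgroup G} (hH : SInv x H) {h : G} (hh : h ∈ H) :
    Commute h (x * h * x⁻¹) :=
  congrArg Subtype.val (CfsgLib.Core.FPFSymThree.commute_self_of_fpf_three hH.aut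
    (hH.aut_cube hx) (hH.aut_fixed hx) ⟨h, hh⟩).eq

/-- An element commutes with its conjugates in the subgroup. -/
theorem SInv.commute_conj (hx : Setup x) {H : Subgroup G} (hH : SInv x H) {h w : G} (hh : h ∈ H)
    (hw : w ∈ H) : Commute h (w * h * w⁻¹) :=
  congrArg Subtype.val (CfsgLib.Core.FPFSymThree.commute_conj_of_fpf_three hH.aut
    (hH.aut_cube hx) (hH.aut_fixed hx) ⟨h, hh⟩ ⟨w, hw⟩).eq

/-- The order of an invariant subgroup is `1` modulo `3`. -/
theorem SInv.card_mod (hx : Setup x) {H : Subgroup G} (hH : SInv x H) :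
    Nat.card H % 3 = 1 := by
  have hA : zpowers x ≤ normalizer (H : Set G) := zpowers_le.2 hH.norm
  have h := CfsgLib.Core.FPF.card_dvd_pred hA fun a ha ha1 => by
    refine (eq_bot_iff_forall _).2 fun h hh => hH.fpf hx hh.1 ?_
    have hc : h * a = a * h := mem_centralizer_singleton_iff.1 hh.2
    rcases hx.mem_iff.1 ha with e | e | e
    · exact absurd e ha1
    · rwa [e] at hc
    · rw [e, ← hx.inv_eq] at hc
      have := congrArg (fun a => x * a * x) hc
      simpa [mul_assoc] using this.symm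
  rw [hx.card_zpowers] at h
  have : 0 < Nat.card H := Nat.card_pos
  omega

/-- The elements `h` of an invariant subgroup satisfy `(h x)³ = 1`. -/
theorem SInv.mul_cube (hx : Setup x) {H : Subgroup G} (hH : SInv x H) {h : G} (hh : h ∈ H) :
    ∃ a ∈ H, h = a⁻¹ * (x * a * x⁻¹) := by
  have hsur : Function.Surjective fun a : H => a⁻¹ * hH.aut a := by
    refine Finite.surjective_of_injective fun a b hab => ?_
    have h : hH.aut (a * b⁻¹) = a * b⁻¹ := by
      rw [map_mul, map_inv]
      have h1 := congrArg (fun z => a * z * (hH.aut b)⁻¹) hab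
      simpa [mul_assoc] using h1
    exact mul_inv_eq_one.mp (hH.aut_fixed hx _ h)
  obtain ⟨a, ha⟩ := hsur ⟨h, hh⟩
  exact ⟨a, a.2, (congrArg Subtype.val ha).symm⟩

theorem SInv.of_le {H K : Subgroup G} (hH : SInv x H) (hK : K ≤ H)
    (hn : x ∈ normalizer (K : Set G)) : SInv x K :=
  ⟨hn, fun h => hH.three (h.trans (card_dvd_of_le hK))⟩

theorem SInv.inf {H K : Subgroup G} (hH : SInv x H) (hK : x ∈ normalizer (K : Set G)) :
    SInv x (H ⊓ K) :=
  hH.of_le inf_le_left (mem_normalizer_iff.2 fun g => by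
    simp only [mem_inf]
    exact and_congr (mem_normalizer_iff.1 hH.norm g) (mem_normalizer_iff.1 hK g))

omit [Finite G] in
theorem SInv.bot (hx : Setup x) : SInv x (⊥ : Subgroup G) :=
  ⟨by rw [normalizer_eq_top]; exact mem_top x, by rw [card_bot]; have := hx.order; norm_num⟩

omit [Finite G] in
/-- The image of an invariant subgroup under an element `t` inverting `x`. -/
theorem SInv.conj_t (hx : Setup x) {t : G} (ht : t * x * t⁻¹ = x⁻¹) {H : Subgroup G}
    (hH : SInv x H) : SInv x (H.map (MulAut.conj t).toMonoidHom) := by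
  refine ⟨?_, ?_⟩
  · rw [← map_equiv_normalizer_eq, mem_map_equiv]
    have e : (MulAut.conj t).symm x = x⁻¹ := by
      rw [MulEquiv.symm_apply_eq, MulAut.conj_apply]
      calc x = (t * x * t⁻¹)⁻¹ := by rw [ht, inv_inv]
        _ = t * x⁻¹ * t⁻¹ := by group
    rw [e]
    exact inv_mem hH.norm
  · rw [card_map_of_injective (MulAut.conj t).injective]
    exact hH.three

end Finite

end CfsgLib.Recog.SelfCentThree
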