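import Cfsg.Agent.Lib.Recog.SelfCentThree.Exclusive
import Cfsg.Agent.Lib.Perm.PrimeOrderCount

/-!
# Counting in a simple group with a self-centralizing element of order three
-/

set_option autoImplicit false
set_option linter.all false

namespace CfsgLib.Recog.SelfCentThree

open Subgroup
open scoped Classical

variable {G : Type*} [Group G] [Finite G] {x t : G}

/-- The maximal invariant subgroups. -/
noncomputable def members (x : G) : Finset (Subgroup G) :=
  (Set.toFinite {F : Subgroup G | Member x F}).toFinset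

theorem mem_members {F : Subgroup G} : F ∈ members x ↔ Member x F := by
  simp [members]

/-- The elements of a subgroup. -/
noncomputable def elems (F : Subgroup G) : Finset G := (Set.toFinite (F : Set G)).toFinset

theorem mem_elems {F : Subgroup G} {g : G} : g ∈ elems F ↔ g ∈ F := by simp [elems]

theorem card_elems (F : Subgroup G) : (elems F).card = Nat.card F :=
  (Set.ncard_eq_toFinset_card _ (Set.toFinite (F : Set G))).symm.trans
    (Nat.card_coe_set_eq (F : Set G)).symm

/-- The triangles at `x` lie in invariant subgroups. -/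
theorem Setup.exists_member_of_triangle (hx : Setup x) {y : G} (hy : IsConj x y)
    (hz : IsConj x (y⁻¹ * x)) (ha1 : x * y ≠ 1) : ∃ F, Member x F ∧ x * y ∈ F := by
  obtain ⟨a, hadef⟩ : ∃ a, a = x * y := ⟨_, rfl⟩
  rw [← hadef] at ha1 ⊢
  have hcube : ∀ {w : G}, IsConj x w → w * w * w = 1 := fun {w} h => by
    obtain ⟨c, rfl⟩ := isConj_iff.1 h
    calc c * x * c⁻¹ * (c * x * c⁻¹) * (c * x * c⁻¹) = c * (x * x * x) * c⁻¹ := by group
      _ = 1 := by rw [hx.cube]; group
  have hy' : y = x⁻¹ * a := by rw [hadef]; group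
  have e1 : (x⁻¹ * a) * (x⁻¹ * a) * (x⁻¹ * a) = 1 := hy' ▸ hcube hy
  have e2 : (x * a) * (x * a) * (x * a) = 1 := by
    have h := hcube hz
    rw [hy', mul_inv_rev, inv_inv] at h
    have key : x * a = (a⁻¹ * x * x)⁻¹ := by
      rw [show (a⁻¹ * x * x)⁻¹ = (x * x)⁻¹ * a by group, ← hx.inv_eq, inv_inv]
    rw [key, ← mul_inv_rev, ← mul_inv_rev, ← mul_assoc, h, inv_one]
  set a1 := x * a * x⁻¹ with ha1'
  set a2 := x⁻¹ * a * x with ha2'
  have hprod : a1 * a2 * a = 1 := by
    calc a1 * a2 * a = (x * a) * (x⁻¹ * x⁻¹) * a * x * a := by rw [ha1', ha2']; group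
      _ = (x * a) * x * a * x * a := by
          rw [show x⁻¹ * x⁻¹ = (x * x)⁻¹ by group, ← hx.inv_eq, inv_inv]
      _ = 1 := by rw [← e2]; group
  have hprod' : a2 * a1 * a = 1 := by
    calc a2 * a1 * a = x⁻¹ * a * (x * x) * a * x⁻¹ * a := by rw [ha1', ha2']; group
      _ = x⁻¹ * a * x⁻¹ * a * x⁻¹ * a := by rw [← hx.inv_eq]
      _ = 1 := by rw [← e1]; group
  have h12 : a1 * a2 = a2 * a1 := mul_right_cancel (hprod.trans hprod'.symm)
  have ha : a = (a1 * a2)⁻¹ := (inv_eq_of_mul_eq_one_right hprod).symm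
  have hc : a * a1 = a1 * a := by
    rw [ha]
    exact ((Commute.refl a1).mul_left (Commute.symm h12)).inv_left.eq
  set A := closure ({a, a1} : Set G) with hA
  haveI hAc : IsMulCommutative A := isMulCommutative_closure (by
    rintro p (rfl | rfl) q (rfl | rfl)
    exacts [rfl, hc, hc.symm, rfl])
  have haA : a ∈ A := subset_closure (by simp)
  have ha1A : a1 ∈ A := subset_closure (by simp)
  have hnorm : x ∈ normalizer (A : Set G) := by
    rw [mem_normalizer_iff_map_conj_eq]
    refine eq_of_le_of_card_ge ?_ (by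
      rw [card_map_of_injective (MulAut.conj x).injective])
    show (closure ({a, a1} : Set G)).map _ ≤ A
    rw [MonoidHom.map_closure, closure_le]
    rintro _ ⟨p, (rfl | rfl), rfl⟩
    · exact ha1A
    · show x * a1 * x⁻¹ ∈ A
      have : x * a1 * x⁻¹ = a2 := by
        rw [ha1', ha2']
        calc x * (x * a * x⁻¹) * x⁻¹ = (x * x) * a * (x * x)⁻¹ := by group
          _ = x⁻¹ * a * x := by rw [← hx.inv_eq, inv_inv]
      rw [this]
      have h2 : a2 = a1⁻¹ * a⁻¹ := by rw [ha]; group
      rw [h2]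
      exact mul_mem (inv_mem ha1A) (inv_mem haA)
  by_cases h3 : 3 ∣ Nat.card A
  · exfalso
    haveI : Fact (Nat.Prime 3) := ⟨Nat.prime_three⟩
    haveI : CommGroup A := { (inferInstance : Group A) with mul_comm := fun p q => hAc.is_comm.comm p q }
    set P : Sylow 3 A := default with hP
    haveI hchar : (P : Subgroup A).Characteristic := P.characteristic_of_normal inferInstance
    set W := (P : Subgroup A).map A.subtype with hW
    have hWx : zpowers x ≤ normalizer (W : Set G) := by
      rw [zpowers_le, mem_normalizer_iff_map_conj_eq]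
      show (((P : Subgroup A).map A.subtype).map (MulAut.conj x).toMonoidHom) = W
      have h := characteristic_iff_map_eq.1 hchar (A.normalizerMonoidHom ⟨x, hnorm⟩)
      conv_rhs => rw [hW, ← h]
      rw [map_map, map_map]
      congr 1
    have hp : IsPGroup 3 (zpowers x ⊔ W : Subgroup G) :=
      IsPGroup.to_sup_of_normal_right' (IsPGroup.of_card (n := 1) (by rw [hx.card_zpowers, pow_one]))
        (P.2.map _) hWx
    have heq := hx.three_group_eq hp (mem_sup_left (mem_zpowers x))
    obtain ⟨w, hw, hw1⟩ : ∃ w ∈ W, w ≠ 1 := by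
      by_contra hcon
      push Not at hcon
      have hbot : W = ⊥ := (eq_bot_iff_forall _).2 hcon
      exact P.ne_bot_of_dvd_card h3 ((map_eq_bot_iff_of_injective _ A.subtype_injective).1 hbot)
    have hwA : w ∈ A := map_subtype_le _ hw
    have hwX : w ∈ zpowers x := by rw [← heq]; exact mem_sup_right hw
    have hwa : w * a = a * w := congrArg Subtype.val (hAc.is_comm.comm ⟨w, hwA⟩ ⟨a, haA⟩)
    have hax : a * x = x * a := by
      rcases hx.mem_iff.1 hwX with e | e | e
      · exact absurd e hw1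
      · rw [e] at hwa; exact hwa.symm
      · rw [e, ← hx.inv_eq] at hwa
        have := congrArg (fun g => x * g * x) hwa
        simpa [mul_assoc] using this
    rcases hx.mem_iff.1 (hx.cent a hax) with e | e | e
    · exact ha1 e
    · rw [e, inv_mul_cancel] at hy'
      exact hx.ne_one (isConj_one_left.1 (hy' ▸ hy))
    · rw [e, ← mul_assoc, inv_mul_cancel, one_mul] at hy'
      rw [hy', inv_mul_cancel] at hz
      exact hx.ne_one (isConj_one_left.1 hz)
  obtain ⟨F, hF, hle⟩ := exists_member hx ⟨hnorm, h3⟩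
    (fun h => ha1 (Subgroup.mem_bot.1 (h ▸ haA)))
  exact ⟨F, hF, hle haA⟩

/-- The number of triangles is bounded by the orders of the members. -/
theorem Setup.card_triangle_le (hx : Setup x) :
    Nat.card {y : G // IsConj x y ∧ IsConj x (y⁻¹ * x)} ≤
      1 + ∑ F ∈ members x, (Nat.card F - 1) := by
  set W := insert (1 : G) ((members x).biUnion fun F => (elems F).erase 1) with hW
  have hmem : ∀ y : {y : G // IsConj x y ∧ IsConj x (y⁻¹ * x)}, x * y.1 ∈ W := fun y => by
    by_cases h : x * y.1 = 1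
    · rw [hW, h]; exact Finset.mem_insert_self _ _
    · obtain ⟨F, hF, hmem⟩ := hx.exists_member_of_triangle y.2.1 y.2.2 h
      exact Finset.mem_insert_of_mem (Finset.mem_biUnion.2
        ⟨F, mem_members.2 hF, Finset.mem_erase.2 ⟨h, mem_elems.2 hmem⟩⟩)
  have h1 : Nat.card {y : G // IsConj x y ∧ IsConj x (y⁻¹ * x)} ≤ Nat.card W :=
    Nat.card_le_card_of_injective (fun y => (⟨x * y.1, hmem y⟩ : W))
      fun a b h => Subtype.ext (mul_left_cancel (congrArg Subtype.val h))
  rw [Nat.card_eq_finsetCard W] at h1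
  refine h1.trans ((Finset.card_insert_le _ _).trans ?_)
  rw [add_comm]
  refine Nat.add_le_add_left (Finset.card_biUnion_le.trans (Finset.sum_le_sum fun F _ => ?_)) _
  rw [Finset.card_erase_of_mem (mem_elems.2 (one_mem F)), card_elems]

/-- The three elements inverting `x`. -/
def taus (x t : G) : Fin 3 → G := ![t, t * x, t * (x * x)]

/-- The conjugates of `τ` under `F`. -/
noncomputable def orbitF (F : Subgroup G) (τ : G) : Finset G :=
  (elems F).image fun a => a * τ * a⁻¹

theorem orbitF_mul (F : Subgroup G) (τ : G) :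
    (orbitF F τ).card * Nat.card (F ⊓ centralizer ({τ} : Set G) : Subgroup G) = Nat.card F := by
  rw [← card_elems F, ← card_elems]
  conv_rhs => rw [Finset.card_eq_sum_card_image (fun a => a * τ * a⁻¹) (elems F)]
  rw [← orbitF, Finset.sum_congr rfl (g := fun _ => (elems (F ⊓ centralizer ({τ} : Set G))).card),
    Finset.sum_const, smul_eq_mul]
  intro u hu
  obtain ⟨b, hb, rfl⟩ := Finset.mem_image.1 hu
  rw [mem_elems] at hb
  refine Finset.card_bij (fun a _ => b⁻¹ * a) (fun a ha => ?_) (fun _ _ _ _ h => mul_left_cancel h)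
    (fun c hc => ⟨b * c, ?_, by group⟩)
  · rw [Finset.mem_filter, mem_elems] at ha
    rw [mem_elems, mem_inf]
    refine ⟨mul_mem (inv_mem hb) ha.1, mem_centralizer_singleton_iff.2 ?_⟩
    have := congrArg (fun g => b⁻¹ * g * a) ha.2
    simpa [mul_assoc] using this
  · rw [mem_elems, mem_inf, mem_centralizer_singleton_iff] at hc
    rw [Finset.mem_filter, mem_elems]
    refine ⟨mul_mem hb hc.1, ?_⟩
    calc b * c * τ * (b * c)⁻¹ = b * (c * τ) * c⁻¹ * b⁻¹ := by group
      _ = b * τ * b⁻¹ := by rw [hc.2]; group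

theorem tx_eq (hx : Setup x) (ht : t * x * t⁻¹ = x⁻¹) : t * x = x⁻¹ * t := by
  rw [← ht]; group

theorem x_conj_t (hx : Setup x) (ht : t * x * t⁻¹ = x⁻¹) : x * t * x⁻¹ = t * x := by
  have e := tx_eq hx ht
  calc x * t * x⁻¹ = x * (t * x) * (x * x)⁻¹ := by group
    _ = t * (x * x)⁻¹ := by rw [e]; group
    _ = t * x := by rw [← hx.inv_eq, inv_inv]

theorem tau_invert (hx : Setup x) (ht : t * x * t⁻¹ = x⁻¹) (i : Fin 3) :
    taus x t i * x * (taus x t i)⁻¹ = x⁻¹ := by
  fin_cases i
  · exact ht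
  · show t * x * x * (t * x)⁻¹ = x⁻¹
    rw [← ht]; group
  · show t * (x * x) * x * (t * (x * x))⁻¹ = x⁻¹
    rw [← ht]; group

theorem tau_conj (hx : Setup x) (ht : t * x * t⁻¹ = x⁻¹) (i : Fin 3) :
    x * taus x t i * x⁻¹ = taus x t (i + 1) := by
  have e := x_conj_t hx ht
  fin_cases i
  · exact e
  · show x * (t * x) * x⁻¹ = t * (x * x)
    calc x * (t * x) * x⁻¹ = (x * t * x⁻¹) * x := by group
      _ = t * (x * x) := by rw [e]; group
  · show x * (t * (x * x)) * x⁻¹ = t
    calc x * (t * (x * x)) * x⁻¹ = (x * t * x⁻¹) * (x * x) := by group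
      _ = t * (x * x * x) := by rw [e]; group
      _ = t := by rw [hx.cube, mul_one]

theorem tau_ne (hx : Setup x) (ht : t * x * t⁻¹ = x⁻¹) {i j : Fin 3} (h : i ≠ j) :
    (taus x t i)⁻¹ * taus x t j ∈ zpowers x ∧ (taus x t i)⁻¹ * taus x t j ≠ 1 := by
  have hmem : ∀ k : Fin 3, ∃ a ∈ zpowers x, taus x t k = t * a := by
    intro k
    fin_cases k
    · exact ⟨1, one_mem _, (mul_one t).symm⟩
    · exact ⟨x, mem_zpowers x, rfl⟩
    · exact ⟨x * x, mul_mem (mem_zpowers x) (mem_zpowers x), rfl⟩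
  obtain ⟨a, ha, hi⟩ := hmem i
  obtain ⟨b, hb, hj⟩ := hmem j
  refine ⟨?_, ?_⟩
  · rw [hi, hj, show (t * a)⁻¹ * (t * b) = a⁻¹ * b by group]
    exact mul_mem (inv_mem ha) hb
  · rw [ne_eq, inv_mul_eq_one]
    intro he
    have h3 : x * x ≠ x := fun e => hx.ne_one (mul_left_cancel (e.trans (mul_one x).symm))
    fin_cases i <;> fin_cases j <;>
      first
      | exact h rfl
      | (simp [taus, mul_eq_left, left_eq_mul, hx.ne_one, hx.sq_ne, h3, h3.symm] at he)

theorem Member.tau_mem (hx : Setup x) (ht : t * x * t⁻¹ = x⁻¹) {F : Subgroup G} (hF : Member x F)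
    (htF : tw t F = F) (i : Fin 3) : taus x t i ∈ normalizer (F : Set G) := by
  have h1 := (tw_eq_iff hx ht F).1 htF
  fin_cases i
  · exact h1
  · exact mul_mem h1 hF.inv.norm
  · exact mul_mem h1 (mul_mem hF.inv.norm hF.inv.norm)

/-- The square of the size of an orbit is at least the order of the member. -/
theorem Member.le_orbit_sq (hx : Setup x) (ht : t * x * t⁻¹ = x⁻¹) {F : Subgroup G} (hF : Member x F)
    (i : Fin 3) :
    Nat.card F ≤ (orbitF F (taus x t i)).card * (orbitF F (taus x t i)).card ∧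
      Nat.card (F ⊓ centralizer ({taus x t i} : Set G) : Subgroup G) *
        Nat.card (F ⊓ centralizer ({taus x t i} : Set G) : Subgroup G) ≤ Nat.card F := by
  set τ := taus x t i with hτ
  set τ' := taus x t (i + 1) with hτ'
  have hJ : (orbitF F τ').card = (orbitF F τ).card := by
    have : orbitF F τ' = (orbitF F τ).image fun u => x * u * x⁻¹ := by
      ext u
      simp only [orbitF, Finset.mem_image, mem_elems]
      constructor
      · rintro ⟨a, ha, rfl⟩
        refine ⟨(x⁻¹ * a * x) * τ * (x⁻¹ * a * x)⁻¹, ⟨_, hF.inv.conj_mem' ha, rfl⟩, ?_⟩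
        rw [hτ', ← tau_conj hx ht i, ← hτ]
        group
      · rintro ⟨_, ⟨a, ha, rfl⟩, rfl⟩
        refine ⟨x * a * x⁻¹, hF.inv.conj_mem ha, ?_⟩
        rw [hτ', ← tau_conj hx ht i, ← hτ]
        group
    rw [this, Finset.card_image_of_injective]
    exact fun u v h => mul_left_cancel (mul_right_cancel h)
  have h1 := orbitF_mul F τ
  have h2 := orbitF_mul F τ'
  set c := Nat.card (F ⊓ centralizer ({τ} : Set G) : Subgroup G) with hc
  set c' := Nat.card (F ⊓ centralizer ({τ'} : Set G) : Subgroup G) with hc'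
  have hne : i ≠ i + 1 := by fin_cases i <;> decide
  have hcc : c * c' ≤ Nat.card F := by
    rw [hc, hc', ← Nat.card_prod]
    refine Nat.card_le_card_of_injective (fun p => (⟨p.1.1 * p.2.1, mul_mem p.1.2.1 p.2.2.1⟩ : F)) ?_
    rintro ⟨⟨a, ha⟩, ⟨b, hb⟩⟩ ⟨⟨a', ha'⟩, ⟨b', hb'⟩⟩ h
    have h' : a * b = a' * b' := congrArg Subtype.val h
    have he : a'⁻¹ * a = b' * b⁻¹ := by
      calc a'⁻¹ * a = a'⁻¹ * (a * b) * b⁻¹ := by group
        _ = b' * b⁻¹ := by rw [h']; group
    have hu1 : a'⁻¹ * a ∈ F ⊓ centralizer ({τ} : Set G) := mul_mem (inv_mem ha') ha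
    have hu2 : a'⁻¹ * a ∈ F ⊓ centralizer ({τ'} : Set G) := he ▸ mul_mem hb' (inv_mem hb)
    obtain ⟨hk, hk1⟩ := tau_ne hx ht hne
    have hcomm : (a'⁻¹ * a) * (τ⁻¹ * τ') = (τ⁻¹ * τ') * (a'⁻¹ * a) :=
      ((Commute.inv_right (mem_centralizer_singleton_iff.1 hu1.2 : Commute _ τ)).mul_right
        (mem_centralizer_singleton_iff.1 hu2.2 : Commute _ τ')).eq
    have h1' : a'⁻¹ * a = 1 := hF.inv.fpf hx hu1.1 (by
      rcases hx.mem_iff.1 hk with e | e | e
      · exact absurd e hk1
      · rw [e] at hcomm; exact hcomm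
      · rw [e, ← hx.inv_eq] at hcomm
        have := congrArg (fun g => x * g * x) hcomm
        simpa [mul_assoc] using this.symm)
    obtain rfl : a' = a := inv_mul_eq_one.1 h1'
    obtain rfl : b = b' := mul_left_cancel h'
    rfl
  have hcc' : c' = c := by
    have h3 : (orbitF F τ).card * c' = (orbitF F τ).card * c := by rw [h1, ← hJ, h2]
    refine Nat.eq_of_mul_eq_mul_left (Finset.card_pos.2 ⟨τ, ?_⟩) h3
    exact Finset.mem_image.2 ⟨1, mem_elems.2 (one_mem F), by group⟩
  rw [hcc'] at hcc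
  refine ⟨?_, hcc⟩
  set f := Nat.card F with hf
  have hfpos : 0 < f := Nat.card_pos
  by_contra hlt
  push Not at hlt
  nlinarith [h1, hcc, hlt]

/-- The involutions counted inside the normalizers of `t`-invariant members. -/
theorem card_class_ge (hx : Setup x) (ht : t * x * t⁻¹ = x⁻¹) (hloc : Local x t)
    (T : Finset (Subgroup G)) (hT : ∀ F ∈ T, Member x F ∧ tw t F = F) :
    3 + ∑ i : Fin 3, ∑ F ∈ T, ((orbitF F (taus x t i)).card - 1) ≤
      Nat.card {u : G // IsConj t u} := by
  set S : Fin 3 → Finset G := fun i =>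
    insert (taus x t i) (T.biUnion fun F => (orbitF F (taus x t i)).erase (taus x t i)) with hS
  -- elements of different orbits differ
  have hform : ∀ {F : Subgroup G} {i : Fin 3} {u : G}, F ∈ T → u ∈ orbitF F (taus x t i) →
      ∃ f ∈ F, u = f * taus x t i := by
    intro F i u hF hu
    obtain ⟨a, ha, rfl⟩ := Finset.mem_image.1 hu
    rw [mem_elems] at ha
    refine ⟨a * (taus x t i * a⁻¹ * (taus x t i)⁻¹), mul_mem ha ?_, by group⟩
    exact (mem_normalizer_iff.1 ((hT F hF).1.tau_mem hx ht (hT F hF).2 i) _).1 (inv_mem ha)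
  have hcross : ∀ {F E : Subgroup G} {i j : Fin 3} {f e : G}, Member x F → tw t F = F →
      Member x E → tw t E = E → f ∈ F → e ∈ E → f * taus x t i = e * taus x t j → i = j := by
    intro F E i j f e hF htF hE htE hf he h
    by_contra hij
    obtain ⟨hk, hk1⟩ := tau_ne hx ht (Ne.symm hij)
    set k := (taus x t j)⁻¹ * taus x t i with hkdef
    set N := normalizer (E : Set G) with hN
    have hτ2 : ∀ l, taus x t l * taus x t l = 1 := fun l => hx.sq_eq_one (tau_invert hx ht l)
    have hf' : f = e * (taus x t j * (taus x t i)⁻¹) := by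
      calc f = f * taus x t i * (taus x t i)⁻¹ := by group
        _ = _ := by rw [h]; group
    have hk' : taus x t j * (taus x t i)⁻¹ = k := by
      rw [hkdef, inv_eq_of_mul_eq_one_right (hτ2 i), inv_eq_of_mul_eq_one_right (hτ2 j)]
    rw [hk'] at hf'
    have hkN : k ∈ N := zpowers_le.2 hE.inv.norm hk
    haveI : (E.subgroupOf N).Normal := normal_in_normalizer
    let q : N →* N ⧸ E.subgroupOf N := QuotientGroup.mk' _
    have hfN : f ∈ N := hf' ▸ mul_mem (le_normalizer he) hkN
    have hq : q ⟨f, hfN⟩ = q ⟨k, hkN⟩ := by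
      have : (⟨f, hfN⟩ : N) = ⟨e, le_normalizer he⟩ * ⟨k, hkN⟩ := Subtype.ext hf'
      have hqe : q (⟨e, le_normalizer he⟩ : N) = 1 :=
        (QuotientGroup.eq_one_iff (⟨e, le_normalizer he⟩ : N)).2 (mem_subgroupOf.2 he)
      rw [this, map_mul, hqe, one_mul]
    have hpow : (⟨f, hfN⟩ : N) ^ Nat.card F = 1 := Subtype.ext (by
      rw [SubmonoidClass.coe_pow]
      exact orderOf_dvd_iff_pow_eq_one.1 (Subgroup.orderOf_dvd_natCard F hf))
    have hkE : k ^ Nat.card F ∈ E := by
      have := congrArg (· ^ Nat.card F) hq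
      rw [← map_pow, hpow, map_one, ← map_pow] at this
      exact mem_subgroupOf.1 ((QuotientGroup.eq_one_iff _).1 this.symm)
    have hpk : k ^ Nat.card F = 1 :=
      hE.inv.fpf hx hkE (((by
        obtain ⟨n, hn⟩ := mem_zpowers_iff.1 hk
        rw [← hn]; exact (Commute.self_zpow x n).symm) : Commute k x).pow_left _).eq
    refine hk1 (orderOf_eq_one_iff.1 (Nat.eq_one_of_dvd_coprimes
      ((Nat.prime_three.coprime_iff_not_dvd.2 hF.inv.three).symm) (orderOf_dvd_of_pow_eq_one hpk) ?_))
    rw [← hx.card_zpowers]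
    exact Subgroup.orderOf_dvd_natCard _ hk
  have hScard : ∀ i, (S i).card = 1 + ∑ F ∈ T, ((orbitF F (taus x t i)).card - 1) := by
    intro i
    rw [hS, Finset.card_insert_of_notMem (by simp), Finset.card_biUnion, add_comm]
    · congr 1
      refine Finset.sum_congr rfl fun F _ => Finset.card_erase_of_mem ?_
      exact Finset.mem_image.2 ⟨1, mem_elems.2 (one_mem F), by group⟩
    · intro F hF E hE hne
      rw [Function.onFun, Finset.disjoint_left]
      intro u hu hu'
      rw [Finset.mem_erase] at hu hu'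
      obtain ⟨f, hf, rfl⟩ := hform hF hu.2
      obtain ⟨e, he, hee⟩ := hform hE hu'.2
      obtain rfl : f = e := mul_right_cancel hee
      have := (hT F hF).1.ti hx ht hloc (hT E hE).1 (hT F hF).2 hne hf he
      subst this
      exact hu.1 (one_mul _)
  have hrep : ∀ i u, u ∈ S i → u = taus x t i ∨ ∃ F ∈ T, ∃ f ∈ F, u = f * taus x t i := by
    intro i u hu
    simp only [hS, Finset.mem_insert, Finset.mem_biUnion, Finset.mem_erase] at hu
    rcases hu with h | ⟨F, hF, -, hu⟩
    · exact Or.inl h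
    · exact Or.inr ⟨F, hF, hform hF hu⟩
  have hdisj : ∀ i j, i ≠ j → Disjoint (S i) (S j) := by
    intro i j hij
    rw [Finset.disjoint_left]
    intro u hu hu'
    rcases hrep i u hu with h1 | ⟨F, hF, f, hf, h1⟩ <;>
      rcases hrep j u hu' with h2 | ⟨E, hE, e, he, h2⟩
    · have := (tau_ne hx ht hij).2
      rw [← h1, ← h2, inv_mul_cancel] at this
      exact this rfl
    · exact hij (hcross (hT E hE).1 (hT E hE).2 (hT E hE).1 (hT E hE).2 (one_mem E) he
        (by rw [one_mul, ← h1, h2]))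
    · exact hij (hcross (hT F hF).1 (hT F hF).2 (hT F hF).1 (hT F hF).2 hf (one_mem F)
        (by rw [one_mul, ← h1, h2]))
    · exact hij (hcross (hT F hF).1 (hT F hF).2 (hT E hE).1 (hT E hE).2 hf he (h1.symm.trans h2))
  have hconjτ : ∀ i, IsConj t (taus x t i) := by
    intro i
    fin_cases i
    · exact IsConj.refl t
    · exact isConj_iff.2 ⟨x, tau_conj hx ht 0⟩
    · exact (isConj_iff.2 ⟨x, tau_conj hx ht 0⟩ : IsConj t (taus x t 1)).trans
        (isConj_iff.2 ⟨x, tau_conj hx ht 1⟩)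
  have hsub : ∀ u ∈ Finset.univ.biUnion S, IsConj t u := by
    intro u hu
    obtain ⟨i, -, hu⟩ := Finset.mem_biUnion.1 hu
    simp only [hS, Finset.mem_insert, Finset.mem_biUnion, Finset.mem_erase] at hu
    rcases hu with rfl | ⟨F, hF, -, hu⟩
    · exact hconjτ i
    · obtain ⟨a, -, rfl⟩ := Finset.mem_image.1 hu
      exact (hconjτ i).trans (isConj_iff.2 ⟨a, rfl⟩)
  have h := Nat.card_le_card_of_injective
    (fun u : (Finset.univ.biUnion S : Finset G) => (⟨u.1, hsub u.1 u.2⟩ : {u : G // IsConj t u}))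
    fun a b h => Subtype.ext (congrArg (fun v : {u : G // IsConj t u} => v.1) h)
  rw [Nat.card_eq_fintype_card, Fintype.card_coe,
    Finset.card_biUnion (fun i _ j _ hij => hdisj i j hij)] at h
  rw [Finset.sum_congr rfl (fun i _ => hScard i), Finset.sum_add_distrib] at h
  simpa using h

variable [Fact (Nat.Prime 2)]

/-- Parts of order four are elementary. -/
theorem SInv.sq_of_card_four (hx : Setup x) {V : Subgroup G} (hV : SInv x V)
    (h4 : Nat.card V = 4) {a : G} (ha : a ∈ V) : a * a = 1 := by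
  have hpow : ∀ b ∈ V, b * b * (b * b) = 1 := fun b hb => by
    have := orderOf_dvd_iff_pow_eq_one.1 ((Subgroup.orderOf_dvd_natCard V hb).trans h4.dvd)
    calc b * b * (b * b) = b ^ 4 := by simp [pow_succ, mul_assoc]
      _ = 1 := this
  by_contra hne
  have ha1 : a ≠ 1 := fun e => hne (by rw [e, one_mul])
  set a1 := x * a * x⁻¹ with ha1'
  set a2 := x⁻¹ * a * x with ha2'
  have hd1 : a1 ≠ a := fun e => ha1 (hV.fpf hx ha (mul_inv_eq_iff_eq_mul.1 e).symm)
  have hd2 : a2 ≠ a := fun e => ha1 (hV.fpf hx ha (by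
    conv_lhs => rw [← show x * a2 * x⁻¹ = a by rw [ha2']; group, e]
    group))
  have hd12 : a1 ≠ a2 := fun e => hd1 (by
    have h : a = x * a1 * x⁻¹ := by
      rw [e, ha2']; group
    calc a1 = x * a * x⁻¹ := ha1'
      _ = x * (x * a1 * x⁻¹) * x⁻¹ := by rw [← h]
      _ = (x * x * x) * a * (x * x * x)⁻¹ := by rw [ha1']; group
      _ = a := by rw [hx.cube]; group)
  have hn1 : a1 ≠ 1 := fun e => ha1 (conj_eq_one_iff.1 e)
  have hn2 : a2 ≠ 1 := fun e => ha1 (by
    have : a = x * a2 * x⁻¹ := by rw [ha2']; group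
    rw [this, e]; group)
  have hset : elems V = {1, a, a1, a2} := by
    refine (Finset.eq_of_subset_of_card_le ?_ ?_).symm
    · intro u hu
      simp only [Finset.mem_insert, Finset.mem_singleton] at hu
      rcases hu with rfl | rfl | rfl | rfl
      exacts [mem_elems.2 (one_mem V), mem_elems.2 ha, mem_elems.2 (hV.conj_mem ha),
        mem_elems.2 (hV.conj_mem' ha)]
    · rw [card_elems, h4, Finset.card_insert_of_notMem, Finset.card_insert_of_notMem,
        Finset.card_pair hd12]
      · simp [Ne.symm hd1, Ne.symm hd2]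
      · simp [Ne.symm ha1, Ne.symm hn1, Ne.symm hn2]
  have hmem := mem_elems.2 (mul_mem ha ha)
  rw [hset] at hmem
  simp only [Finset.mem_insert, Finset.mem_singleton] at hmem
  rcases hmem with e | e | e | e
  · exact hne e
  · exact ha1 (mul_eq_left.1 e)
  · have h := hpow a ha
    rw [e, ha1'] at h
    refine hne ?_
    calc a * a = x⁻¹ * (x * a * x⁻¹ * (x * a * x⁻¹)) * x := by group
      _ = 1 := by rw [h]; group
  · have h := hpow a ha
    rw [e, ha2'] at h
    refine hne ?_
    calc a * a = x * (x⁻¹ * a * x * (x⁻¹ * a * x)) * x⁻¹ := by group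
      _ = 1 := by rw [h]; group

/-- With Sylow `2`-subgroups of order eight there are at most two even members. -/
theorem card_even_le_two (hx : Setup x) (ht : t * x * t⁻¹ = x⁻¹) (hloc : Local x t)
    (h8 : (Nat.card G).factorization 2 = 3) (T : Finset (Subgroup G))
    (hT : ∀ F ∈ T, Member x F ∧ tw t F = F ∧ 2 ∣ Nat.card F) : T.card ≤ 2 := by
  have hfacts : ∀ F ∈ T, Nat.card (part 2 F) = 4 ∧ Nat.card (partT t F) = 8 := by
    intro F hF
    obtain ⟨hm, htF, h2⟩ := hT F hF
    obtain ⟨a, ha, hlt⟩ := two_mul_le_partT hx ht hm htF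
    have ha3 : a ≤ 3 := by
      have h := ((Nat.prime_two).pow_dvd_iff_le_factorization Nat.card_pos.ne').1
        (ha ▸ card_subgroup_dvd_card (partT t F))
      omega
    have h1 : 0 < (Nat.card F).factorization 2 :=
      Nat.prime_two.factorization_pos_of_dvd Nat.card_pos.ne' h2
    have hmod := (hm.inv.part_inv (p := 2) hx).card_mod hx
    rw [card_part] at hmod ⊢
    rcases (by omega : (Nat.card F).factorization 2 = 1 ∨ (Nat.card F).factorization 2 = 2) with e | e
    · rw [e] at hmod; norm_num at hmod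
    · rw [e] at hlt ⊢
      obtain rfl : a = 3 := by omega
      exact ⟨rfl, ha⟩
  rcases T.eq_empty_or_nonempty with rfl | ⟨F₀, hF₀⟩
  · simp
  obtain ⟨hm₀, ht₀, h2₀⟩ := hT F₀ hF₀
  obtain ⟨P, hP⟩ := (isPGroup_partT hx ht hm₀ ht₀).exists_le_sylow
  have hPeq : partT t F₀ = P := eq_of_le_of_card_ge hP (by
    rw [(hfacts F₀ hF₀).2, P.card_eq_multiplicity, h8]; norm_num)
  set V₀ := part 2 F₀ with hV₀
  have hV₀i : SInv x V₀ := hm₀.inv.part_inv (p := 2) hx
  set Z := V₀ ⊓ centralizer ({t} : Set G) with hZ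
  have hZle : Nat.card Z ≤ 2 := by
    have hle : Nat.card Z ≤ Nat.card (F₀ ⊓ centralizer ({t} : Set G) : Subgroup G) :=
      Nat.le_of_dvd Nat.card_pos (card_dvd_of_le (inf_le_inf_right _ (part_le F₀)))
    have hdd : Nat.card Z ∣ 4 := (hfacts F₀ hF₀).1 ▸ card_dvd_of_le (inf_le_left : Z ≤ V₀)
    have hne4 : Nat.card Z ≠ 4 := by
      intro h4
      have hVZ : Z = V₀ := eq_of_le_of_card_ge inf_le_left (by rw [(hfacts F₀ hF₀).1, h4])
      obtain ⟨v, hv, hv1⟩ : ∃ v ∈ V₀, v ≠ 1 := by
        by_contra hcon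
        push Not at hcon
        have := (hfacts F₀ hF₀).1
        rw [← hV₀, (eq_bot_iff_forall _).2 hcon, card_bot] at this
        norm_num at this
      have hc : ∀ w ∈ V₀, w * t = t * w := fun w hw =>
        mem_centralizer_singleton_iff.1 ((hVZ.symm ▸ hw : w ∈ Z).2)
      have h1 := hc _ (hV₀i.conj_mem hv)
      have h2 := hc v hv
      refine hv1 (hV₀i.fpf hx hv ?_)
      have hcx : Commute v (t * x) := by
        have e := x_conj_t hx ht
        rw [← e]
        have h3 := hc _ (hV₀i.conj_mem' hv)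
        have : x * (x⁻¹ * v * x * t) * x⁻¹ = x * (t * (x⁻¹ * v * x)) * x⁻¹ := by rw [h3]
        show v * (x * t * x⁻¹) = (x * t * x⁻¹) * v
        simpa [mul_assoc] using this
      exact ((Commute.inv_right (h2 : Commute v t)).mul_right hcx).eq |> fun h => by simpa using h
    have := Nat.le_of_dvd (by norm_num) hdd
    rcases Nat.eq_zero_or_pos (Nat.card Z) with h | h
    · omega
    · interval_cases h' : Nat.card Z <;> omega
  -- the only possible second elementary subgroup
  let U : Finset G := elems Z ∪ (elems Z).image (fun z => z * t)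
  have hUcard : U.card ≤ 4 := by
    refine (Finset.card_union_le _ _).trans ?_
    have := Finset.card_image_le (s := elems Z) (f := fun z => z * t)
    rw [card_elems] at this ⊢
    omega
  have hchoose : ∀ E ∈ T, E ≠ F₀ → ∃ g : G,
      elems ((part 2 E).map (MulAut.conj g).toMonoidHom) = U := by
    intro E hE hne
    obtain ⟨hm, htE, h2⟩ := hT E hE
    obtain ⟨PE, hPE⟩ := (isPGroup_part (p := 2) E).exists_le_sylow
    obtain ⟨g, hg⟩ := MulAction.exists_smul_eq G PE P
    refine ⟨g, ?_⟩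
    set V := (part 2 E).map (MulAut.conj g).toMonoidHom with hV
    have hVc : Nat.card V = 4 := by
      rw [hV, card_map_of_injective (MulAut.conj g).injective]; exact (hfacts E hE).1
    have hVne : V ≠ V₀ := fun h => by
      rcases hm.eq_of_conj_part (p := 2) hx ht hloc hm₀ h2 h2₀ g h.symm with e | e
      · exact hne e.symm
      · rw [htE] at e; exact hne e.symm
    have hVsq : ∀ v ∈ V, v * v = 1 := by
      rintro _ ⟨v, hv, rfl⟩
      rw [← map_mul, (hm.inv.part_inv (p := 2) hx).sq_of_card_four hx (hfacts E hE).1 hv, map_one]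
    have hVP : ∀ v ∈ V, v ∈ V₀ ∨ ∃ e ∈ V₀, v = e * t := by
      rintro _ ⟨v, hv, rfl⟩
      refine mem_partT hx ht hm₀ ht₀ ?_
      rw [hPeq, ← hg, Sylow.coe_subgroup_smul, Subgroup.pointwise_smul_def]
      exact ⟨v, hPE hv, rfl⟩
    have hVcomm : ∀ v ∈ V, ∀ w ∈ V, v * w = w * v := by
      intro v hv w hw
      calc v * w = (v * w)⁻¹ := (inv_eq_of_mul_eq_one_right (hVsq _ (mul_mem hv hw))).symm
        _ = w⁻¹ * v⁻¹ := mul_inv_rev _ _
        _ = w * v := by
          rw [inv_eq_of_mul_eq_one_right (hVsq v hv), inv_eq_of_mul_eq_one_right (hVsq w hw)]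
    obtain ⟨u, hu, hu0⟩ : ∃ u ∈ V, u ∉ V₀ := by
      by_contra hcon
      push Not at hcon
      exact hVne (eq_of_le_of_card_ge hcon (by rw [hVc, (hfacts F₀ hF₀).1]))
    obtain ⟨e, he, rfl⟩ := (hVP u hu).resolve_left hu0
    have hV₀comm : ∀ v ∈ V₀, v * e = e * v := by
      intro v hv
      have h1 := hV₀i.sq_of_card_four hx (hfacts F₀ hF₀).1 (mul_mem hv he)
      have h2 := inv_eq_of_mul_eq_one_right (hV₀i.sq_of_card_four hx (hfacts F₀ hF₀).1 hv)
      have h3 := inv_eq_of_mul_eq_one_right (hV₀i.sq_of_card_four hx (hfacts F₀ hF₀).1 he)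
      calc v * e = (v * e)⁻¹ := (inv_eq_of_mul_eq_one_right h1).symm
        _ = e * v := by rw [mul_inv_rev, h2, h3]
    have heZ : e ∈ Z := by
      refine mem_inf.2 ⟨he, mem_centralizer_singleton_iff.2 ?_⟩
      have h1 := hVsq _ hu
      have h2 := hV₀i.sq_of_card_four hx (hfacts F₀ hF₀).1 he
      calc e * t = (e * t)⁻¹ := (inv_eq_of_mul_eq_one_right h1).symm
        _ = t⁻¹ * e⁻¹ := mul_inv_rev _ _
        _ = t * e := by rw [inv_eq_of_mul_eq_one_right (hx.sq_eq_one ht), inv_eq_of_mul_eq_one_right h2]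
    have het : e * t = t * e := mem_centralizer_singleton_iff.1 heZ.2
    have hin : ∀ v ∈ V, v ∈ V₀ → v ∈ Z := by
      intro v hv hv0
      refine mem_inf.2 ⟨hv0, mem_centralizer_singleton_iff.2 ?_⟩
      calc v * t = e⁻¹ * (e * v) * t := by group
        _ = e⁻¹ * (v * (e * t)) := by rw [← hV₀comm v hv0]; group
        _ = e⁻¹ * ((e * t) * v) := by rw [hVcomm v hv _ hu]
        _ = t * v := by group
    refine Finset.eq_of_subset_of_card_le (fun v hv => ?_) (hUcard.trans ?_)
    · rw [mem_elems] at hv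
      rcases hVP v hv with h | ⟨e', he', rfl⟩
      · exact Finset.mem_union_left _ (mem_elems.2 (hin v hv h))
      · refine Finset.mem_union_right _ (Finset.mem_image.2 ⟨e', mem_elems.2 ?_, rfl⟩)
        have hmul : e' * t * (e * t) = e' * e := by
          calc e' * t * (e * t) = e' * (t * e) * t := by group
            _ = e' * e * (t * t) := by rw [← het]; group
            _ = e' * e := by rw [hx.sq_eq_one ht, mul_one]
        have h := hin _ (hmul ▸ mul_mem hv hu) (mul_mem he' he)
        have := mul_mem h (inv_mem heZ)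
        simpa using this
    · rw [card_elems, hVc]
  by_contra h3
  push Not at h3
  obtain ⟨E, hE, E', hE', hne⟩ : ∃ E ∈ T.erase F₀, ∃ E' ∈ T.erase F₀, E ≠ E' :=
    Finset.one_lt_card.1 (by rw [Finset.card_erase_of_mem hF₀]; omega)
  rw [Finset.mem_erase] at hE hE'
  obtain ⟨g, hg⟩ := hchoose E hE.2 hE.1
  obtain ⟨g', hg'⟩ := hchoose E' hE'.2 hE'.1
  have heq : (part 2 E).map (MulAut.conj g).toMonoidHom = (part 2 E').map (MulAut.conj g').toMonoidHom := by
    ext u
    rw [← mem_elems, hg, ← hg', mem_elems]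
  have hconj : part 2 E' = (part 2 E).map (MulAut.conj (g'⁻¹ * g)).toMonoidHom := by
    have h := congrArg (Subgroup.map (MulAut.conj g'⁻¹).toMonoidHom) heq
    rw [map_map, map_map] at h
    have e1 : (MulAut.conj g'⁻¹).toMonoidHom.comp (MulAut.conj g').toMonoidHom = MonoidHom.id G := by
      ext u; show g'⁻¹ * (g' * u * g'⁻¹) * g'⁻¹⁻¹ = u; group
    rw [e1, map_id] at h
    rw [← h]
    congr 1
    ext u; show g'⁻¹ * (g * u * g⁻¹) * g'⁻¹⁻¹ = g'⁻¹ * g * u * (g'⁻¹ * g)⁻¹; group
  obtain ⟨hm, htE, h2⟩ := hT E hE.2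
  obtain ⟨hm', -, h2'⟩ := hT E' hE'.2
  rcases hm.eq_of_conj_part (p := 2) hx ht hloc hm' h2 h2' _ hconj with e | e
  · exact hne e.symm
  · rw [htE] at e; exact hne e.symm

end CfsgLib.Recog.SelfCentThree
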