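import Cfsg.Agent.Lib.Recog.SelfCentThree.Members

/-!
# An even `t`-invariant member excludes even members that are not `t`-invariant
-/

set_option autoImplicit false
set_option linter.all false

namespace CfsgLib.Recog.SelfCentThree

open Subgroup
open scoped Classical

variable {G : Type*} [Group G] [Finite G] {x t : G}

/-- An element inverting `x` lies in no invariant subgroup. -/
theorem SInv.inverter_notMem (hx : Setup x) {k : G} (hk : k * x * k⁻¹ = x⁻¹) {H : Subgroup G}
    (hH : SInv x H) : k ∉ H := fun h => by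
  have hmem : k * (x * k⁻¹ * x⁻¹) ∈ H := mul_mem h (hH.conj_mem (inv_mem h))
  have he : k * (x * k⁻¹ * x⁻¹) = x := by
    calc k * (x * k⁻¹ * x⁻¹) = (k * x * k⁻¹) * x⁻¹ := by group
      _ = (x * x)⁻¹ := by rw [hk]; group
      _ = x := by rw [← hx.inv_eq, inv_inv]
  rw [he] at hmem
  exact hx.ne_one (hH.fpf hx hmem rfl)

theorem lt_inf_normalizer_of_isNilpotent {P D : Subgroup G} (hP : Group.IsNilpotent P) (h : D < P) :
    D < P ⊓ normalizer (D : Set G) := by
  refine lt_of_le_of_ne (le_inf h.le le_normalizer) fun heq => ?_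
  have hlt : D.subgroupOf P < ⊤ := by
    rw [lt_top_iff_ne_top, ne_eq, subgroupOf_eq_top]
    exact h.not_ge
  obtain ⟨⟨g, hgP⟩, hg, hgD⟩ := SetLike.exists_of_lt (normalizerCondition_of_isNilpotent _ hlt)
  refine hgD (mem_subgroupOf.2 (heq.symm ▸ mem_inf.2 ⟨hgP, mem_normalizer_iff.2 fun d => ?_⟩))
  constructor
  · intro hd
    exact mem_subgroupOf.1 ((mem_normalizer_iff.1 hg ⟨d, h.le hd⟩).1 (mem_subgroupOf.2 hd))
  · intro hd
    have hdP : d ∈ P := by
      have := mul_mem (mul_mem (inv_mem hgP) (h.le hd)) hgP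
      simpa [mul_assoc] using this
    exact mem_subgroupOf.1 ((mem_normalizer_iff.1 hg ⟨d, hdP⟩).2 (mem_subgroupOf.2 hd))

/-- The part of a `t`-invariant member extended by `t`. -/
noncomputable def partT (t : G) (E : Subgroup G) : Subgroup G := part 2 E ⊔ zpowers t

variable [Fact (Nat.Prime 2)]

theorem zpowers_le_normalizer_part (hx : Setup x) (ht : t * x * t⁻¹ = x⁻¹) {E : Subgroup G}
    (hE : Member x E) (htE : tw t E = E) : zpowers t ≤ normalizer ((part 2 E) : Set G) :=
  zpowers_le.2 (hE.inv.normalizer_le_part hx ((tw_eq_iff hx ht E).1 htE))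

theorem isPGroup_partT (hx : Setup x) (ht : t * x * t⁻¹ = x⁻¹) {E : Subgroup G}
    (hE : Member x E) (htE : tw t E = E) : IsPGroup 2 (partT t E) := by
  rw [partT, sup_comm]
  refine IsPGroup.to_sup_of_normal_right' ?_ (isPGroup_part E)
    (zpowers_le_normalizer_part hx ht hE htE)
  have ht1 : t ≠ 1 := fun e => hx.inv_ne (by rw [← ht, e]; group)
  refine IsPGroup.of_card (n := 1) ?_
  rw [Nat.card_zpowers, pow_one]
  exact orderOf_eq_prime (by rw [pow_two, hx.sq_eq_one ht]) ht1

theorem mem_partT (hx : Setup x) (ht : t * x * t⁻¹ = x⁻¹) {E : Subgroup G}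
    (hE : Member x E) (htE : tw t E = E) {q : G} (hq : q ∈ partT t E) :
    q ∈ part 2 E ∨ ∃ e ∈ part 2 E, q = e * t := by
  rw [partT, ← SetLike.mem_coe,
    coe_mul_of_right_le_normalizer_left _ _ (zpowers_le_normalizer_part hx ht hE htE)] at hq
  obtain ⟨e, he, k, hk, rfl⟩ := hq
  obtain ⟨n, rfl⟩ := mem_zpowers_iff.1 hk
  rcases Int.even_or_odd n with ⟨m, rfl⟩ | ⟨m, rfl⟩
  · left
    show e * t ^ (m + m) ∈ part 2 E
    rwa [← two_mul, zpow_mul, zpow_two, hx.sq_eq_one ht, one_zpow, mul_one]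
  · refine Or.inr ⟨e, he, ?_⟩
    show e * t ^ (2 * m + 1) = e * t
    rw [zpow_add, zpow_mul, zpow_two, hx.sq_eq_one ht, one_zpow, one_mul, zpow_one]

theorem two_mul_le_partT (hx : Setup x) (ht : t * x * t⁻¹ = x⁻¹) {E : Subgroup G}
    (hE : Member x E) (htE : tw t E = E) :
    ∃ a, Nat.card (partT t E) = 2 ^ a ∧ (Nat.card E).factorization 2 < a := by
  obtain ⟨a, ha⟩ := IsPGroup.iff_card.1 (isPGroup_partT hx ht hE htE)
  refine ⟨a, ha, ?_⟩
  by_contra hle
  have h : Nat.card (partT t E) ≤ Nat.card (part 2 E) := by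
    rw [ha, card_part]; exact Nat.pow_le_pow_right two_pos (not_lt.1 hle)
  have heq := eq_of_le_of_card_ge (le_sup_left : part 2 E ≤ partT t E) h
  have : t ∈ part 2 E := heq ▸ mem_sup_right (mem_zpowers t)
  exact hE.inv.inverter_notMem hx ht (part_le E this)

/-- In `2`-subgroups every element commutes with its conjugates when an even member is not
`t`-invariant. -/
theorem Member.commute_conj_two (hx : Setup x) (ht : t * x * t⁻¹ = x⁻¹) (hloc : Local x t)
    {F : Subgroup G} (hF : Member x F) (h2 : 2 ∣ Nat.card F) (htF : tw t F ≠ F) (P : Sylow 2 G)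
    {a w : G} (ha : a ∈ (P : Subgroup G)) (hw : w ∈ (P : Subgroup G)) :
    Commute a (w * a * w⁻¹) := by
  obtain ⟨PF, hPF⟩ := (isPGroup_part (p := 2) F).exists_le_sylow
  have eF : part 2 F = PF := eq_of_le_of_card_ge hPF (by
    rw [card_part, ← hF.factorization_eq hx ht hloc h2 (by norm_num) (fun _ => htF),
      PF.card_eq_multiplicity])
  obtain ⟨g, hg⟩ := MulAction.exists_smul_eq G P PF
  have hmem : ∀ b, b ∈ (P : Subgroup G) → g * b * g⁻¹ ∈ part 2 F := fun b hb => by
    rw [eF, ← hg, Sylow.coe_subgroup_smul, Subgroup.pointwise_smul_def]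
    exact ⟨b, hb, rfl⟩
  have h := ((hF.inv.part_inv (p := 2) hx).commute_conj hx (hmem a ha) (hmem w hw)).map
    (MulAut.conj g⁻¹)
  simpa [MulAut.conj_apply, mul_assoc] using h

/-- Even members are either all `t`-invariant or none is. -/
theorem Member.not_even_both (hx : Setup x) (ht : t * x * t⁻¹ = x⁻¹) (hloc : Local x t)
    {F E : Subgroup G} (hF : Member x F) (hE : Member x E) (h2F : 2 ∣ Nat.card F)
    (h2E : 2 ∣ Nat.card E) (htF : tw t F ≠ F) (htE : tw t E = E) : False := by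
  obtain ⟨P, hP⟩ := (isPGroup_partT hx ht hE htE).exists_le_sylow
  obtain ⟨a, ha, hlta⟩ := two_mul_le_partT hx ht hE htE
  set e2 := (Nat.card E).factorization 2 with he2
  -- the normalizer of the part meets `P` in `partT`
  have hsmall : ∀ L : Subgroup G, IsPGroup 2 L → partT t E ≤ L →
      L ≤ normalizer ((part 2 E) : Set G) → L = partT t E ∧ a = e2 + 1 := by
    intro L hL hle hLN
    obtain ⟨b, hb⟩ := IsPGroup.iff_card.1 hL
    rw [(hE.normalizer_part hx hloc h2E).1] at hLN
    have hd := card_dvd_of_le hLN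
    rw [hE.card_normalizer hx ht hloc, if_pos htE, hb] at hd
    have hbe : b ≤ e2 + 1 := by
      have h := ((Nat.prime_two).pow_dvd_iff_le_factorization
        (mul_ne_zero Nat.card_pos.ne' (by norm_num))).1 hd
      rw [Nat.factorization_mul Nat.card_pos.ne' (by norm_num), Finsupp.add_apply,
        show (6 : ℕ).factorization 2 = 1 by
          rw [show (6 : ℕ) = 2 * 3 by norm_num, Nat.factorization_mul (by norm_num) (by norm_num),
            Finsupp.add_apply, Nat.prime_two.factorization_self,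
            Nat.factorization_eq_zero_of_not_dvd (n := 3) (by norm_num)]] at h
      exact h
    have hab : a ≤ b := by
      have := card_dvd_of_le hle
      rw [ha, hb] at this
      exact Nat.pow_dvd_pow_iff_le_right (by norm_num) |>.1 this
    refine ⟨(eq_of_le_of_card_ge hle ?_).symm, by omega⟩
    rw [ha, hb]
    exact Nat.pow_le_pow_right two_pos (by omega)
  by_cases hPN : (P : Subgroup G) ≤ normalizer ((part 2 E) : Set G)
  · obtain ⟨heq, ha1⟩ := hsmall P P.2 hP hPN
    have hPc : Nat.card (P : Subgroup G) = Nat.card (part 2 F) := by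
      rw [Sylow.card_eq_multiplicity, card_part,
        hF.factorization_eq hx ht hloc h2F (by norm_num) (fun _ => htF)]
    have h1 := (hF.inv.part_inv (p := 2) hx).card_mod hx
    have h2 := (hE.inv.part_inv (p := 2) hx).card_mod hx
    rw [← hPc, heq, ha, ha1, pow_succ] at h1
    rw [card_part, ← he2] at h2
    omega
  obtain ⟨hQN, -⟩ : partT t E ≤ normalizer ((part 2 E) : Set G) ∧ True :=
    ⟨sup_le le_normalizer (zpowers_le_normalizer_part hx ht hE htE), trivial⟩
  have hlt : partT t E < P := lt_of_le_of_ne hP fun h => hPN (h ▸ hQN)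
  obtain ⟨s, hs, hsQ⟩ := SetLike.exists_of_lt
    (lt_inf_normalizer_of_isNilpotent P.2.isNilpotent hlt)
  have hsN : s ∉ normalizer ((part 2 E) : Set G) := fun h => hsQ (by
    rw [← (hsmall ((P : Subgroup G) ⊓ normalizer ((part 2 E) : Set G))
      (P.2.to_le inf_le_left) (le_inf hP hQN) inf_le_right).1]
    exact ⟨hs.1, h⟩)
  set E2 := part 2 E with hE2
  set D := ⁅E2, E2⁆ with hD
  have hE2P : E2 ≤ P := le_sup_left.trans hP
  have hDle : D ≤ E2 := commutator_le.2 fun p hp q hq =>
    mul_mem (mul_mem (mul_mem hp hq) (inv_mem hp)) (inv_mem hq)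
  have hDnorm : ∀ g ∈ normalizer (E2 : Set G), ∀ d ∈ D, g * d * g⁻¹ ∈ D := by
    intro g hg d hd
    have h := mem_normalizer_iff_map_conj_eq.1 hg
    have h' : E2.map (MulAut.conj g).toMonoidHom = E2 := h
    have : D.map (MulAut.conj g).toMonoidHom = D := by rw [hD, map_commutator, h']
    rw [← this]
    exact mem_map_of_mem _ hd
  -- the elements moved out of the part are twisted into `D`
  have hbad : ∀ b ∈ E2, s * b * s⁻¹ ∉ E2 → t * b * t * b⁻¹ ∈ D := by
    intro b hb hbs
    have hbQ : s * b * s⁻¹ ∈ partT t E :=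
      (mem_normalizer_iff.1 hs.2 b).1 (mem_sup_left hb)
    rcases mem_partT hx ht hE htE hbQ with h | ⟨e, he, heq⟩
    · exact absurd h hbs
    have hc := hF.commute_conj_two hx ht hloc h2F htF P (hE2P hb) hs.1
    rw [heq] at hc
    have ht2 := hx.sq_eq_one ht
    have h1 : t * b * t = e⁻¹ * b * e := by
      calc t * b * t = e⁻¹ * ((e * t) * b) * t := by group
        _ = e⁻¹ * (b * (e * t)) * t := by rw [hc.eq]
        _ = e⁻¹ * b * e * (t * t) := by group
        _ = e⁻¹ * b * e := by rw [ht2, mul_one]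
    rw [h1]
    have := commutator_mem_commutator (inv_mem he) hb
    rw [commutatorElement_def, inv_inv] at this
    exact this
  obtain ⟨a0, ha0, ha0s⟩ : ∃ a0 ∈ E2, s * a0 * s⁻¹ ∉ E2 := by
    by_contra hcon
    push Not at hcon
    refine hsN (mem_normalizer_iff_map_conj_eq.2 (eq_of_le_of_card_ge ?_ ?_))
    · rintro _ ⟨b, hb, rfl⟩
      exact hcon b hb
    · rw [card_map_of_injective (MulAut.conj s).injective]
  have hall : ∀ b ∈ E2, t * b * t * b⁻¹ ∈ D := by
    intro b hb
    by_cases hbs : s * b * s⁻¹ ∈ E2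
    · have hba : s * (b * a0) * s⁻¹ ∉ E2 := fun h => ha0s (by
        have := mul_mem (inv_mem hbs) h
        simpa [mul_assoc] using this)
      have h1 := hbad _ (mul_mem hb ha0) hba
      have h2 := hbad _ ha0 ha0s
      have ht2 := hx.sq_eq_one ht
      have he : t * (b * a0) * t * (b * a0)⁻¹ =
          (t * b * t * b⁻¹) * (b * (t * a0 * t * a0⁻¹) * b⁻¹) := by
        calc t * (b * a0) * t * (b * a0)⁻¹ = t * b * 1 * a0 * t * a0⁻¹ * b⁻¹ := by group
          _ = t * b * (t * t) * a0 * t * a0⁻¹ * b⁻¹ := by rw [ht2]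
          _ = (t * b * t * b⁻¹) * (b * (t * a0 * t * a0⁻¹) * b⁻¹) := by group
      have h3 := mul_mem h1 (inv_mem (hDnorm b (le_normalizer hb) _ h2))
      rwa [he, mul_inv_cancel_right] at h3
    · exact hbad b hb hbs
  have hE2inv : SInv x E2 := hE.inv.part_inv (p := 2) hx
  have hxD : ∀ b ∈ E2, x * b * x⁻¹ * b⁻¹ ∈ D := by
    intro b hb
    have hti : t⁻¹ = t := inv_eq_of_mul_eq_one_right (hx.sq_eq_one ht)
    have htxt : t * x * t = x⁻¹ := by rw [← ht, hti]
    have htxt' : t * x⁻¹ * t = x := by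
      rw [← htxt]
      calc t * (t * x * t) * t = (t * t) * x * (t * t) := by group
        _ = x := by rw [hx.sq_eq_one ht]; group
    have h1 := hall _ (hE2inv.conj_mem hb)
    have h2 := hDnorm x⁻¹ (inv_mem hE2inv.norm) _ (hall b hb)
    have e1 : t * (x * b * x⁻¹) * t * (x * b * x⁻¹)⁻¹ =
        x⁻¹ * (t * b * t * b⁻¹) * x * ((x⁻¹ * b * x) * (x * b * x⁻¹)⁻¹) := by
      have e0 : t * (x * b * x⁻¹) * t = x⁻¹ * (t * b * t) * x := by
        calc t * (x * b * x⁻¹) * t = t * x * (t * t) * b * (t * t) * x⁻¹ * t := by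
              rw [hx.sq_eq_one ht]; group
          _ = (t * x * t) * (t * b * t) * (t * x⁻¹ * t) := by group
          _ = x⁻¹ * (t * b * t) * x := by rw [htxt, htxt']
      rw [e0]; group
    have h3 : (x⁻¹ * b * x) * (x * b * x⁻¹)⁻¹ ∈ D := by
      have h4 := mul_mem (inv_mem h2) h1
      rw [e1, show x⁻¹ * (t * b * t * b⁻¹) * x⁻¹⁻¹ = x⁻¹ * (t * b * t * b⁻¹) * x by rw [inv_inv],
        inv_mul_cancel_left] at h4
      exact h4
    have h5 := hDnorm x hE2inv.norm _ h3
    have e2 : x * ((x⁻¹ * b * x) * (x * b * x⁻¹)⁻¹) * x⁻¹ = b * (x⁻¹ * b * x)⁻¹ := by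
      have hxx : x * x = x⁻¹ := hx.inv_eq.symm
      calc x * ((x⁻¹ * b * x) * (x * b * x⁻¹)⁻¹) * x⁻¹ = b * ((x * x) * b⁻¹ * (x * x)⁻¹) := by group
        _ = b * (x⁻¹ * b * x)⁻¹ := by rw [hxx]; group
    rw [e2] at h5
    have h6 := inv_mem (mul_mem h5 h3)
    have e3 : (b * (x⁻¹ * b * x)⁻¹ * ((x⁻¹ * b * x) * (x * b * x⁻¹)⁻¹))⁻¹ = x * b * x⁻¹ * b⁻¹ := by
      group
    rwa [e3] at h6
  -- every element is such a commutator
  have htop : E2 ≤ D := by
    intro h hh
    obtain ⟨b, hb, rfl⟩ := hE2inv.mul_cube hx hh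
    have := hDnorm b⁻¹ (inv_mem (le_normalizer hb)) _ (hxD b hb)
    simpa [mul_assoc] using this
  haveI : Group.IsNilpotent E2 := hE2inv.isNilpotent hx
  haveI : Nontrivial E2 := (nontrivial_iff_ne_bot _).2 (part_ne_bot h2E)
  refine (Group.IsSolvable.commutator_lt_top_of_nontrivial E2).ne ?_
  rw [eq_top_iff]
  intro b _
  have hb : (b : G) ∈ (commutator E2).map E2.subtype := by
    rw [map_subtype_commutator]
    exact htop b.2
  obtain ⟨c, hc, hcb⟩ := hb
  exact (E2.subtype_injective hcb) ▸ hc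

end CfsgLib.Recog.SelfCentThree
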