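import Cfsg.Agent.Lib.Recog.SelfCentThree.NormModule
import Cfsg.Agent.Lib.Recog.SelfCentThree.AltFiveFacts
import Cfsg.Agent.Lib.Classical.PSLTwoSimple
import Cfsg.Agent.Lib.LocalEvenB.FpfExtension

/-!
# Extensions of `A₅` and of `PSL(2,7)` by invariant subgroups
-/

set_option autoImplicit false
set_option linter.all false
set_option maxRecDepth 100000

open scoped Classical

namespace CfsgLib.Recog.SelfCentThree

open Subgroup

local notation "SL7" => Matrix.SpecialLinearGroup (Fin 2) (ZMod 7)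
local notation "L7" => Matrix.ProjectiveSpecialLinearGroup (Fin 2) (ZMod 7)

theorem simple_seven [Fact (Nat.Prime 7)] : IsSimpleGroup L7 :=
  CfsgLib.Classical.isSimpleGroup_PSL_two (by rw [ZMod.card]; norm_num)

/-- A translation of order seven. -/
def sc : SL7 := ⟨!![1, 1; 0, 1], by decide +kernel⟩
/-- A diagonal element of order three. -/
def sy : SL7 := ⟨!![2, 0; 0, 4], by decide +kernel⟩
/-- An element of order four. -/
def sa : SL7 := ⟨!![0, 1; 6, 0], by decide +kernel⟩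
/-- An element of order four. -/
def sb : SL7 := ⟨!![2, 4; 4, 5], by decide +kernel⟩
/-- An element of order three. -/
def sz : SL7 := ⟨!![0, 2; 3, 6], by decide +kernel⟩

/-- The cyclic group of order seven. -/
def sW : Finset SL7 := (Finset.range 7).image (sc ^ ·)

theorem sW_facts : sW.card = 7 ∧ (1 : SL7) ∈ sW ∧ (∀ u ∈ sW, ∀ w ∈ sW, u * w ∈ sW) ∧
    sW.image (fun w => w * (sy * w * sy⁻¹)) = sW ∧
    (∀ w ∈ sW, w * sy * (w * sy) * (w * sy) = 1) ∧ sc ∈ sW ∧
    (∀ w ∈ sW, w * sy * sc ≠ sc * (w * sy)) ∧ sc * sy ≠ sy * sc := by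
  decide +kernel

theorem klein_facts : (∀ A : SL7, sa * sa * A = A * (sa * sa) ∧ sb * sb * A = A * (sb * sb)) ∧
    sz * sz * sz = 1 ∧ sz * sa * sz⁻¹ = sb ∧ sz * sb * sz⁻¹ = sa * sb ∧
    (∀ A : SL7, (sb * sa)⁻¹ * (sa * sb) * A = A * ((sb * sa)⁻¹ * (sa * sb))) ∧
    sa * sb ≠ sb * sa ∧ sz * sa ≠ sa * sz := by
  decide +kernel

theorem mk_eq_one {A : SL7} :
    (QuotientGroup.mk' (center SL7) A : L7) = 1 ↔ ∀ B : SL7, A * B = B * A := by
  rw [QuotientGroup.mk'_apply, QuotientGroup.eq_one_iff, mem_center_iff]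
  exact ⟨fun h B => (h B).symm, fun h B => (h B).symm⟩

variable {G : Type*} [Group G] [Finite G] {x : G}

/-- An abelian invariant subgroup centralized by the kernel of a map onto `PSL(2,7)` is trivial. -/
theorem module_trivial_seven (hx : Setup x) (π : G →* L7) (hπ : Function.Surjective π)
    (hk : ¬ 3 ∣ Nat.card π.ker) (V : Subgroup G) [V.Normal] (hV3 : ¬ 3 ∣ Nat.card V)
    (hVc : ∀ a ∈ V, ∀ b ∈ V, a * b = b * a) (hVk : ∀ v ∈ V, ∀ k ∈ π.ker, k * v = v * k)
    (hcop : (Nat.card V).Coprime 7 ∨ (Nat.card V).Coprime 4) : V = ⊥ := by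
  haveI : Fact (Nat.Prime 7) := ⟨by norm_num⟩
  haveI := simple_seven
  set m : SL7 →* L7 := QuotientGroup.mk' (center SL7) with hm
  rcases hcop with hcop | hcop
  · obtain ⟨hcard, h1, hmul, hσ, hord, hc, hne, hcy⟩ := sW_facts
    refine module_trivial hx π hπ hk V hV3 hVc hVk m sy sW h1 hmul (by convert hσ) (by rwa [hcard])
      (fun w hw => ⟨by rw [← map_mul, ← map_mul, hord w hw, map_one],
        fun e => hne w hw (mk_eq_one.1 e sc)⟩) ⟨sc, hc, fun e => hcy (mk_eq_one.1 e sy)⟩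
  · obtain ⟨hsq, hz3, hza, hzb, hcomm, hab, hzn⟩ := klein_facts
    obtain ⟨W, hcard, h1, hmul, hσ, hord, w, hw, hw1⟩ := klein_data (a := m sa) (b := m sb) (y := m sz)
      (by rw [← map_mul]; exact mk_eq_one.2 fun A => (hsq A).1)
      (by rw [← map_mul]; exact mk_eq_one.2 fun A => (hsq A).2)
      (by rw [← map_mul, ← map_mul, eq_comm, ← inv_mul_eq_one, ← map_inv, ← map_mul]
          exact mk_eq_one.2 hcomm)
      (by rw [← map_inv, ← map_mul, ← map_mul, hza])
      (by rw [← map_inv, ← map_mul, ← map_mul, ← map_mul, hzb])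
      (by rw [← map_mul, ← map_mul, hz3, map_one])
      (fun e => hab (mk_eq_one.1 e sb)) (fun e => hzn (mk_eq_one.1 e sa))
    exact module_trivial hx π hπ hk V hV3 hVc hVk (MonoidHom.id L7) _ W h1 hmul hσ
      (by rwa [hcard]) hord ⟨w, hw, hw1⟩

/-- An abelian invariant subgroup of odd order centralized by the kernel of a map onto `A₅` is
trivial. -/
theorem module_trivial_five (hx : Setup x) (π : G →* alternatingGroup (Fin 5))
    (hπ : Function.Surjective π) (hk : ¬ 3 ∣ Nat.card π.ker) (V : Subgroup G) [V.Normal]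
    (hV3 : ¬ 3 ∣ Nat.card V) (hVc : ∀ a ∈ V, ∀ b ∈ V, a * b = b * a)
    (hVk : ∀ v ∈ V, ∀ k ∈ π.ker, k * v = v * k) (hodd : ¬ 2 ∣ Nat.card V) : V = ⊥ := by
  haveI := alternatingGroup.isSimpleGroup_five
  obtain ⟨h3, hy1, ha, hb, hab, hya, hyb, ha1⟩ := fy_facts
  obtain ⟨W, hcard, h1, hmul, hσ, hord, w, hw, hw1⟩ := klein_data ha hb hab hya hyb h3 ha1 hy1
  exact module_trivial hx π hπ hk V hV3 hVc hVk (MonoidHom.id _) fy W h1 hmul hσ
    (by rw [hcard]; exact (Nat.prime_two.coprime_iff_not_dvd.2 hodd).symm.pow_right 2)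
    hord ⟨w, hw, hw1⟩

/-- A normal `2`-subgroup with quotient `A₅` is elementary abelian. -/
theorem elementary_of_alt_five (hx : Setup x) (N : Subgroup G) [N.Normal] (hN : IsPGroup 2 N)
    (e : G ⧸ N ≃* alternatingGroup (Fin 5)) : ∀ n ∈ N, n * n = 1 := by
  obtain ⟨F, _, _, _, hF, ⟨f⟩⟩ := exists_sl_two_four
  haveI : Fact (Nat.Prime 2) := ⟨Nat.prime_two⟩
  have hex : ∃ t : F, t ≠ 0 ∧ t ≠ 1 := by
    by_contra hall
    push Not at hall
    haveI : DecidableEq F := Classical.decEq F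
    have hle : (Finset.univ : Finset F) ⊆ ({(0 : F), (1 : F)} : Finset F) := fun t _ => by
      rcases eq_or_ne t 0 with h | h
      · simp [h]
      · simp [hall t h]
    have := Finset.card_le_card hle
    rw [Finset.card_univ, hF, Finset.card_pair zero_ne_one] at this
    omega
  have h3 : ¬ 3 ∣ Nat.card N := by
    obtain ⟨k, hk⟩ := IsPGroup.iff_card.1 hN
    rw [hk]
    exact fun h => absurd ((Nat.prime_dvd_prime_iff_eq Nat.prime_three Nat.prime_two).1
      (Nat.prime_three.dvd_of_dvd_pow h)) (by norm_num)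
  exact CfsgLib.LocalEvenB.fpf_extension_elementary hex _ N le_rfl hN (e.trans f) x hx.order
    fun q hq hfix => (SInv.of_normal h3 x).fpf hx hq (mul_inv_eq_iff_eq_mul.1 hfix).symm

end CfsgLib.Recog.SelfCentThree
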