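import Cfsg.Agent.Lib.Recog.SelfCentThree.Basic

/-!
# Maximal invariant subgroups

In a group where the normalizer of every non-trivial invariant subgroup has one of the two shapes
of `Local`, two different maximal invariant subgroups meet trivially unless they are exchanged by
the inverting element, and each has a small normalizer.
-/

set_option autoImplicit false
set_option linter.all false

namespace CfsgLib.Recog.SelfCentThree

open Subgroup
open scoped Classical

variable {G : Type*} [Group G]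

/-- `g` normalizes `⟨x⟩`. -/
def NX (x g : G) : Prop := g * x * g⁻¹ = x ∨ g * x * g⁻¹ = x⁻¹

/-- The image of `F` under conjugation by `t`. -/
def tw (t : G) (F : Subgroup G) : Subgroup G := F.map (MulAut.conj t).toMonoidHom

/-- The normalizer of `D` is an invariant subgroup extended by elements normalizing `⟨x⟩`. -/
def LocalA (x : G) (D : Subgroup G) : Prop :=
  ∃ M : Subgroup G, SInv x M ∧ M ≤ normalizer (D : Set G) ∧
    normalizer (D : Set G) ≤ normalizer (M : Set G) ∧
    (∀ H, SInv x H → H ≤ normalizer (D : Set G) → H ≤ M) ∧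
    ∀ g ∈ normalizer (D : Set G), ∃ m ∈ M, ∃ k, NX x k ∧ g = m * k

/-- The shape of a normalizer with an `A₅` quotient. -/
def LocalB (x t : G) (D : Subgroup G) : Prop :=
  (∀ d ∈ D, d * d = 1) ∧ (∃ P, SInv x P ∧ D < P) ∧
    (∀ H, SInv x H → H ≤ normalizer (D : Set G) → IsPGroup 2 H) ∧
    ∀ H₁ H₂, SInv x H₁ → H₁ ≤ normalizer (D : Set G) → SInv x H₂ → H₂ ≤ normalizer (D : Set G) →
      (∃ P, SInv x P ∧ H₁ ≤ P ∧ H₂ ≤ P) ∨ ∃ P, SInv x P ∧ H₁ ≤ P ∧ H₂ ≤ tw t P

/-- Every non-trivial invariant subgroup has one of the two local shapes. -/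
def Local (x t : G) : Prop :=
  ∀ D : Subgroup G, D ≠ ⊥ → SInv x D → LocalA x D ∨ LocalB x t D

/-- `F` is a maximal non-trivial invariant subgroup. -/
structure Member (x : G) (F : Subgroup G) : Prop where
  inv : SInv x F
  ne_bot : F ≠ ⊥
  max : ∀ H, SInv x H → F ≤ H → H = F

/-- The Sylow `p`-subgroup of `F` as a subgroup of `G`. -/
noncomputable def part (p : ℕ) (F : Subgroup G) : Subgroup G :=
  ((default : Sylow p F) : Subgroup F).map F.subtype

variable [Finite G] {x t : G}

theorem exists_member (hx : Setup x) {H : Subgroup G} (hH : SInv x H) (hH1 : H ≠ ⊥) :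
    ∃ F, Member x F ∧ H ≤ F := by
  obtain ⟨F, hHF, hF⟩ := (Set.toFinite {K : Subgroup G | SInv x K}).exists_le_maximal (a := H) hH
  refine ⟨F, ⟨hF.1, fun h => hH1 (le_bot_iff.1 (h ▸ hHF)), fun K hK hFK => ?_⟩, hHF⟩
  exact le_antisymm (hF.2 hK hFK) hFK

theorem tw_tw (hx : Setup x) (ht : t * x * t⁻¹ = x⁻¹) (F : Subgroup G) : tw t (tw t F) = F := by
  rw [tw, tw, map_map]
  convert map_id F using 2
  ext g
  show t * (t * g * t⁻¹) * t⁻¹ = g
  have h2 := hx.sq_eq_one ht
  calc t * (t * g * t⁻¹) * t⁻¹ = (t * t) * g * (t * t)⁻¹ := by group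
    _ = g := by rw [h2]; group

theorem mem_tw (hx : Setup x) (ht : t * x * t⁻¹ = x⁻¹) {F : Subgroup G} {g : G} :
    g ∈ tw t F ↔ t * g * t⁻¹ ∈ F := by
  have h2 := hx.sq_eq_one ht
  have hinv : t⁻¹ = t := inv_eq_of_mul_eq_one_right h2
  rw [tw, mem_map_equiv, MulAut.conj_symm_apply, hinv]

theorem tw_mono {F E : Subgroup G} (h : F ≤ E) : tw t F ≤ tw t E := map_mono h

theorem Member.tw_member (hx : Setup x) (ht : t * x * t⁻¹ = x⁻¹) {F : Subgroup G}
    (hF : Member x F) : Member x (tw t F) where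
  inv := hF.inv.conj_t hx ht
  ne_bot h := hF.ne_bot ((map_eq_bot_iff_of_injective _ (MulAut.conj t).injective).1 h)
  max H hH hle := by
    have h := hF.max (tw t H) (hH.conj_t hx ht) (by rw [← tw_tw hx ht F]; exact tw_mono hle)
    rw [← h, tw_tw hx ht]

theorem card_tw (F : Subgroup G) : Nat.card (tw t F) = Nat.card F :=
  card_map_of_injective (MulAut.conj t).injective

/-- A proper subgroup of an invariant subgroup grows in its normalizer. -/
theorem SInv.lt_inf_normalizer (hx : Setup x) {F D : Subgroup G} (hF : SInv x F) (h : D < F) :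
    D < F ⊓ normalizer (D : Set G) := by
  have hnil := hF.isNilpotent hx
  refine lt_of_le_of_ne (le_inf h.le le_normalizer) fun heq => ?_
  have hlt : D.subgroupOf F < ⊤ := by
    rw [lt_top_iff_ne_top, ne_eq, subgroupOf_eq_top]
    exact h.not_ge
  obtain ⟨⟨g, hgF⟩, hg, hgD⟩ := SetLike.exists_of_lt (normalizerCondition_of_isNilpotent _ hlt)
  refine hgD (mem_subgroupOf.2 (heq.symm ▸ mem_inf.2 ⟨hgF, mem_normalizer_iff.2 fun d => ?_⟩))
  constructor
  · intro hd
    exact mem_subgroupOf.1 ((mem_normalizer_iff.1 hg ⟨d, h.le hd⟩).1 (mem_subgroupOf.2 hd))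
  · intro hd
    have hdF : d ∈ F := by
      have := mul_mem (mul_mem (inv_mem hgF) (h.le hd)) hgF
      simpa [mul_assoc] using this
    exact mem_subgroupOf.1 ((mem_normalizer_iff.1 hg ⟨d, hdF⟩).2 (mem_subgroupOf.2 hd))

theorem SInv.normalizer_mem {D : Subgroup G} (hD : SInv x D) :
    x ∈ normalizer ((normalizer (D : Set G) : Subgroup G) : Set G) :=
  le_normalizer hD.norm

/-- Two different maximal invariant subgroups meet trivially, or they are exchanged by `t` and
their intersection has exponent two. -/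
theorem Member.pair (hx : Setup x) (ht : t * x * t⁻¹ = x⁻¹) (hloc : Local x t) :
    ∀ (n : ℕ) {F E : Subgroup G}, Nat.card G - Nat.card (F ⊓ E : Subgroup G) ≤ n → Member x F → Member x E →
      F ≠ E → F ⊓ E ≠ ⊥ → E = tw t F ∧ ∀ d ∈ F ⊓ E, d * d = 1 := by
  intro n
  induction n using Nat.strong_induction_on with
  | _ n ih =>
    intro F E hn hF hE hne hD
    set D := F ⊓ E with hDdef
    have hFlt : D < F := inf_le_left.lt_of_ne fun h => hne (hF.max E hE.inv (h ▸ inf_le_right)).symm
    have hElt : D < E := inf_le_right.lt_of_ne fun h => hne (hE.max F hF.inv (h ▸ inf_le_left))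
    have hDinv : SInv x D := hF.inv.inf hE.inv.norm
    set H₁ := F ⊓ normalizer (D : Set G) with hH₁
    set H₂ := E ⊓ normalizer (D : Set G) with hH₂
    have h1 : D < H₁ := hF.inv.lt_inf_normalizer hx hFlt
    have h2 : D < H₂ := hE.inv.lt_inf_normalizer hx hElt
    have h1i : SInv x H₁ := hF.inv.inf hDinv.normalizer_mem
    have h2i : SInv x H₂ := hE.inv.inf hDinv.normalizer_mem
    -- a member meeting `F'` in more than `D` is `F'` or its twist
    have key : ∀ F' K, Member x F' → Member x K → D < K ⊓ F' →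
        K = F' ∨ (K = tw t F' ∧ ∀ d ∈ D, d * d = 1) := by
      intro F' K hF' hK hlt
      by_cases heq : K = F'
      · exact Or.inl heq
      have hc : Nat.card D < Nat.card (F' ⊓ K : Subgroup G) := by
        rw [inf_comm]
        by_contra hle
        exact hlt.ne (eq_of_le_of_card_ge hlt.le (not_lt.1 hle))
      have hle : Nat.card (F' ⊓ K : Subgroup G) ≤ Nat.card G := Subgroup.card_le_card_group _
      have hne' : F' ⊓ K ≠ ⊥ := fun h => by
        rw [inf_comm] at h
        exact hD (le_bot_iff.1 (h ▸ hlt.le))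
      obtain ⟨e, he⟩ := ih _ (by omega) le_rfl hF' hK (Ne.symm heq) hne'
      exact Or.inr ⟨e, fun d hd => he d (inf_comm K F' ▸ hlt.le hd)⟩
    have common : ∀ P, SInv x P → H₁ ≤ P → H₂ ≤ P → False := by
      intro P hP hP1 hP2
      obtain ⟨K, hK, hPK⟩ := exists_member hx hP fun h => h1.ne_bot (le_bot_iff.1 (h ▸ hP1))
      have hFK : D < K ⊓ F := h1.trans_le (le_inf (hP1.trans hPK) inf_le_left)
      have hEK : D < K ⊓ E := h2.trans_le (le_inf (hP2.trans hPK) inf_le_left)
      rcases key F K hF hK hFK with rfl | ⟨rfl, -⟩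
      · exact hEK.ne rfl
      rcases key E _ hE hK hEK with e | ⟨e, -⟩
      · rw [e] at hFK
        rw [inf_comm] at hFK
        exact hFK.ne rfl
      · exact hne (by rw [← tw_tw hx ht F, e, tw_tw hx ht])
    rcases hloc D hD hDinv with ⟨M, hM, -, -, hall, -⟩ | ⟨hexp, -, -, hB⟩
    · exact (common M hM (hall _ h1i inf_le_right) (hall _ h2i inf_le_right)).elim
    rcases hB H₁ H₂ h1i inf_le_right h2i inf_le_right with ⟨P, hP, hP1, hP2⟩ | ⟨P, hP, hP1, hP2⟩
    · exact (common P hP hP1 hP2).elim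
    obtain ⟨K, hK, hPK⟩ := exists_member hx hP fun h => h1.ne_bot (le_bot_iff.1 (h ▸ hP1))
    have hFK : D < K ⊓ F := h1.trans_le (le_inf (hP1.trans hPK) inf_le_left)
    have hEK : D < tw t K ⊓ E := h2.trans_le (le_inf (hP2.trans (tw_mono hPK)) inf_le_left)
    refine ⟨?_, hexp⟩
    rcases key F K hF hK hFK with rfl | ⟨rfl, -⟩
    · rcases key E _ hE (hK.tw_member hx ht) hEK with e | ⟨e, -⟩
      · exact e.symm
      · exact absurd (by rw [← tw_tw hx ht K, e, tw_tw hx ht]) hne
    · rw [tw_tw hx ht] at hEK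
      rcases key E _ hE hF hEK with e | ⟨e, -⟩
      · exact absurd e hne
      · rw [e, tw_tw hx ht]

theorem Member.pair' (hx : Setup x) (ht : t * x * t⁻¹ = x⁻¹) (hloc : Local x t) {F E : Subgroup G}
    (hF : Member x F) (hE : Member x E) (hne : F ≠ E) {g : G} (hgF : g ∈ F) (hgE : g ∈ E)
    (hg : g ≠ 1) : E = tw t F ∧ g * g = 1 := by
  have h := hF.pair hx ht hloc _ le_rfl hE hne fun h => hg (Subgroup.mem_bot.1 (h ▸ mem_inf.2 ⟨hgF, hgE⟩))
  exact ⟨h.1, h.2 g (mem_inf.2 ⟨hgF, hgE⟩)⟩

/-- A `t`-invariant member meets every other member trivially. -/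
theorem Member.ti (hx : Setup x) (ht : t * x * t⁻¹ = x⁻¹) (hloc : Local x t) {F E : Subgroup G}
    (hF : Member x F) (hE : Member x E) (htF : tw t F = F) (hne : F ≠ E) {g : G} (hgF : g ∈ F)
    (hgE : g ∈ E) : g = 1 := by
  by_contra hg
  exact hne (((hF.pair' hx ht hloc hE hne hgF hgE hg).1).trans htF).symm

/-! ### Sylow parts -/

section Part

variable {p : ℕ} [Fact p.Prime]

theorem part_le (F : Subgroup G) : part p F ≤ F := map_subtype_le _

theorem isPGroup_part (F : Subgroup G) : IsPGroup p (part p F) := (default : Sylow p F).2.map _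

theorem card_part (F : Subgroup G) : Nat.card (part p F) = p ^ (Nat.card F).factorization p := by
  rw [part, card_map_of_injective F.subtype_injective]
  exact Sylow.card_eq_multiplicity _

theorem part_ne_bot {F : Subgroup G} (h : p ∣ Nat.card F) : part p F ≠ ⊥ := by
  rw [← one_lt_card_iff_ne_bot, card_part]
  exact Nat.one_lt_pow ((Fact.out : p.Prime).factorization_pos_of_dvd Nat.card_pos.ne' h).ne'
    (Fact.out : p.Prime).one_lt

theorem SInv.normalizer_le_part (hx : Setup x) {F : Subgroup G} (hF : SInv x F) :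
    normalizer (F : Set G) ≤ normalizer ((part p F) : Set G) := by
  have hnil := hF.isNilpotent hx
  set P : Sylow p F := default with hP
  haveI hchar : (P : Subgroup F).Characteristic :=
    P.characteristic_of_normal (P.normal_of_normalizerCondition normalizerCondition_of_isNilpotent)
  intro g hg
  rw [mem_normalizer_iff_map_conj_eq]
  show (((P : Subgroup F).map F.subtype).map (MulAut.conj g).toMonoidHom) = (P : Subgroup F).map F.subtype
  have h := characteristic_iff_map_eq.1 hchar (F.normalizerMonoidHom ⟨g, hg⟩)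
  conv_rhs => rw [← h]
  rw [map_map, map_map]
  congr 1

theorem SInv.part_inv (hx : Setup x) {F : Subgroup G} (hF : SInv x F) : SInv x (part p F) :=
  hF.of_le (part_le F) (hF.normalizer_le_part hx hF.norm)

theorem SInv.le_normalizer_part (hx : Setup x) {F : Subgroup G} (hF : SInv x F) :
    F ≤ normalizer ((part p F) : Set G) :=
  le_normalizer.trans (hF.normalizer_le_part hx)

/-- The elements of `p`-power order of an invariant subgroup lie in its part. -/
theorem SInv.mem_part (hx : Setup x) {F : Subgroup G} (hF : SInv x F) {g : G} (hgF : g ∈ F)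
    (hg : ∃ k : ℕ, g ^ p ^ k = 1) : g ∈ part p F := by
  have hnil := hF.isNilpotent hx
  set P : Sylow p F := default with hP
  haveI : Subsingleton (Sylow p F) :=
    (P.unique_of_normal (P.normal_of_normalizerCondition normalizerCondition_of_isNilpotent)).instSubsingleton
  obtain ⟨k, hk⟩ := hg
  have hzp : IsPGroup p (zpowers (⟨g, hgF⟩ : F)) := by
    rintro ⟨a, ha⟩
    obtain ⟨i, rfl⟩ := mem_zpowers_iff.1 ha
    refine ⟨k, Subtype.ext (Subtype.ext ?_)⟩
    simp only [SubmonoidClass.coe_pow, coe_zpow, OneMemClass.coe_one]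
    rw [← zpow_natCast, ← zpow_mul, mul_comm, zpow_mul, zpow_natCast, hk, one_zpow]
  obtain ⟨Q, hQ⟩ := hzp.exists_le_sylow
  exact mem_map_of_mem F.subtype (Subsingleton.elim Q P ▸ hQ (mem_zpowers _))

theorem Member.normalizer_part (hx : Setup x) (hloc : Local x t) {F : Subgroup G}
    (hF : Member x F) (hp : p ∣ Nat.card F) :
    normalizer ((part p F) : Set G) = normalizer (F : Set G) ∧
      (∀ H, SInv x H → H ≤ normalizer (F : Set G) → H ≤ F) ∧
      ∀ g ∈ normalizer (F : Set G), ∃ m ∈ F, ∃ k, NX x k ∧ g = m * k := by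
  rcases hloc _ (part_ne_bot hp) (hF.inv.part_inv (p := p) hx) with
      ⟨M, hM, -, hMn, hall, hdec⟩ | ⟨-, ⟨P, hP, hlt⟩, htwo, -⟩
  · obtain rfl := hF.max M hM (hall F hF.inv (hF.inv.le_normalizer_part hx))
    have heq : normalizer ((part p M) : Set G) = normalizer (M : Set G) :=
      le_antisymm hMn (hM.normalizer_le_part hx)
    rw [heq] at hall hdec
    exact ⟨heq, hall, hdec⟩
  · exfalso
    haveI : Fact (Nat.Prime 2) := ⟨Nat.prime_two⟩
    have h2 := htwo F hF.inv (hF.inv.le_normalizer_part hx)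
    obtain ⟨n, hn⟩ := IsPGroup.iff_card.1 h2
    have hp2 : p = 2 := (Nat.prime_dvd_prime_iff_eq (Fact.out : p.Prime) Nat.prime_two).1
      ((Fact.out : p.Prime).dvd_of_dvd_pow (hn ▸ hp))
    subst hp2
    have hpart : part 2 F = F := le_antisymm (part_le F) fun g hg => hF.inv.mem_part hx hg (by
      obtain ⟨k, hk⟩ := h2 ⟨g, hg⟩
      exact ⟨k, congrArg Subtype.val hk⟩)
    rw [hpart] at hlt
    exact hlt.ne (hF.max P hP hlt.le).symm

end Part

theorem Member.exists_prime {F : Subgroup G}
    (h : Member x F) : ∃ p : ℕ, p.Prime ∧ p ∣ Nat.card F :=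
  Nat.exists_prime_and_dvd fun e => h.ne_bot (Subgroup.card_eq_one.1 e)

theorem Member.normalizer_struct (hx : Setup x) (hloc : Local x t) {F : Subgroup G}
    (hF : Member x F) :
    (∀ H, SInv x H → H ≤ normalizer (F : Set G) → H ≤ F) ∧
      ∀ g ∈ normalizer (F : Set G), ∃ m ∈ F, ∃ k, NX x k ∧ g = m * k := by
  obtain ⟨p, hp, hpF⟩ := hF.exists_prime
  haveI := Fact.mk hp
  exact (hF.normalizer_part hx hloc hpF).2

theorem tw_eq_iff (hx : Setup x) (ht : t * x * t⁻¹ = x⁻¹) (F : Subgroup G) :
    tw t F = F ↔ t ∈ normalizer (F : Set G) :=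
  mem_normalizer_iff_map_conj_eq.symm

theorem NX.one (x : G) : NX x 1 := Or.inl (by group)

/-- The normalizer of a member. -/
theorem Member.card_normalizer (hx : Setup x) (ht : t * x * t⁻¹ = x⁻¹) (hloc : Local x t)
    {F : Subgroup G} (hF : Member x F) :
    Nat.card (normalizer (F : Set G)) = Nat.card F * (if tw t F = F then 6 else 3) := by
  obtain ⟨-, hdec⟩ := hF.normalizer_struct hx hloc
  set N := normalizer (F : Set G) with hN
  have hFx : ∀ f ∈ F, NX x f → f = 1 := by
    intro f hf hk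
    rcases hk with e | e
    · exact hF.inv.fpf hx hf (mul_inv_eq_iff_eq_mul.1 e)
    · exfalso
      have hmem : f * (x * f⁻¹ * x⁻¹) ∈ F := mul_mem hf (hF.inv.conj_mem (inv_mem hf))
      have he : f * (x * f⁻¹ * x⁻¹) = x := by
        calc f * (x * f⁻¹ * x⁻¹) = (f * x * f⁻¹) * x⁻¹ := by group
          _ = x⁻¹ * x⁻¹ := by rw [e]
          _ = (x * x)⁻¹ := by group
          _ = x := by rw [← hx.inv_eq, inv_inv]
      rw [he] at hmem
      exact hx.ne_one (hF.inv.fpf hx hmem rfl)
  let K : Subgroup G := N ⊓ normalizer ((zpowers x : Subgroup G) : Set G)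
  have hK : ∀ k, k ∈ K ↔ k ∈ N ∧ NX x k := by
    intro k
    simp only [K, mem_inf, and_congr_right_iff]
    intro _
    constructor
    · intro h
      rcases hx.mem_iff.1 ((mem_normalizer_iff.1 h x).1 (mem_zpowers x)) with e | e | e
      · exact absurd (conj_eq_one_iff.1 e) hx.ne_one
      · exact Or.inl e
      · exact Or.inr (e.trans hx.inv_eq.symm)
    · intro h
      rw [mem_normalizer_iff_map_conj_eq, MonoidHom.map_zpowers]
      show zpowers (k * x * k⁻¹) = _
      rcases h with e | e <;> rw [e]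
      exact zpowers_inv
  have hbij : Function.Bijective (fun p : F × K => (⟨p.1.1 * p.2.1,
      mul_mem (le_normalizer p.1.2) ((hK _).1 p.2.2).1⟩ : N)) := by
    constructor
    · rintro ⟨⟨f, hf⟩, ⟨k, hk⟩⟩ ⟨⟨f', hf'⟩, ⟨k', hk'⟩⟩ h
      have h' : f * k = f' * k' := congrArg Subtype.val h
      have he : f'⁻¹ * f = k' * k⁻¹ := by
        calc f'⁻¹ * f = f'⁻¹ * (f * k) * k⁻¹ := by group
          _ = k' * k⁻¹ := by rw [h']; group
      have h1 := hFx _ (mul_mem (inv_mem hf') hf) (he ▸ ((hK _).1 (mul_mem hk' (inv_mem hk))).2)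
      obtain rfl : f' = f := inv_mul_eq_one.1 h1
      obtain rfl : k = k' := mul_left_cancel h'
      rfl
    · rintro ⟨g, hg⟩
      obtain ⟨m, hm, k, hk, rfl⟩ := hdec g hg
      have hkN : k ∈ N := by
        have := mul_mem (inv_mem (le_normalizer hm : m ∈ N)) hg
        simpa using this
      exact ⟨⟨⟨m, hm⟩, ⟨k, (hK k).2 ⟨hkN, hk⟩⟩⟩, rfl⟩
  rw [← Nat.card_congr (Equiv.ofBijective _ hbij), Nat.card_prod]
  congr 1
  have hxK : ∀ a ∈ zpowers x, a ∈ K := fun a ha =>
    mem_inf.2 ⟨zpowers_le.2 hF.inv.norm ha, le_normalizer ha⟩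
  split_ifs with htF
  · have htK : t ∈ K := (hK t).2 ⟨(tw_eq_iff hx ht F).1 htF, Or.inr ht⟩
    have htX : t ∉ zpowers x := fun h => by
      refine hx.inv_ne ?_
      obtain ⟨n, hn⟩ := mem_zpowers_iff.1 h
      rw [← ht, ← hn]
      calc x ^ n * x * (x ^ n)⁻¹ = x * x ^ n * (x ^ n)⁻¹ := by rw [(Commute.self_zpow x n).eq]
        _ = x := by group
    let f : zpowers x × Bool → K := fun a =>
      if a.2 then ⟨t * a.1.1, mul_mem htK (hxK _ a.1.2)⟩ else ⟨a.1.1, hxK _ a.1.2⟩
    have hf : Function.Bijective f := by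
      constructor
      · rintro ⟨⟨a, ha⟩, b⟩ ⟨⟨a', ha'⟩, b'⟩ h
        have h' := congrArg Subtype.val h
        rcases b <;> rcases b' <;> simp only [f, if_true, if_false, Bool.false_eq_true] at h'
        · exact Prod.ext (Subtype.ext h') rfl
        · exact absurd (by
            have : t = a * a'⁻¹ := by rw [h']; group
            rw [this]; exact mul_mem ha (inv_mem ha')) htX
        · exact absurd (by
            have : t = a' * a⁻¹ := by rw [← h']; group
            rw [this]; exact mul_mem ha' (inv_mem ha)) htX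
        · exact Prod.ext (Subtype.ext (mul_left_cancel h')) rfl
      · rintro ⟨k, hk⟩
        rcases hx.normalizer_cases ht ((hK k).1 hk).2 with h | ⟨a, ha, rfl⟩
        · exact ⟨(⟨k, h⟩, false), by simp [f]⟩
        · exact ⟨(⟨a, ha⟩, true), by simp [f]⟩
    rw [← Nat.card_congr (Equiv.ofBijective f hf), Nat.card_prod, hx.card_zpowers]
    simp
  · have : K = zpowers x := le_antisymm (fun k hk => by
      rcases hx.normalizer_cases ht ((hK k).1 hk).2 with h | ⟨a, ha, rfl⟩
      · exact h
      · refine absurd ((tw_eq_iff hx ht F).2 ?_) htF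
        have := mul_mem ((hK _).1 hk).1 (inv_mem (zpowers_le.2 hF.inv.norm ha))
        simpa using this) hxK
    rw [this, hx.card_zpowers]

section Conj

variable {p : ℕ} [Fact p.Prime]

/-- Members with conjugate parts are equal or exchanged by `t`. -/
theorem Member.eq_of_conj_part (hx : Setup x) (ht : t * x * t⁻¹ = x⁻¹) (hloc : Local x t)
    {F E : Subgroup G} (hF : Member x F) (hE : Member x E) (hpF : p ∣ Nat.card F)
    (hpE : p ∣ Nat.card E) (g : G) (hg : part p E = (part p F).map (MulAut.conj g).toMonoidHom) :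
    E = F ∨ E = tw t F := by
  have hNE := hE.normalizer_part hx hloc hpE
  have hN : normalizer (E : Set G) = (normalizer (F : Set G)).map (MulAut.conj g).toMonoidHom := by
    rw [← hNE.1, hg, ← map_equiv_normalizer_eq, (hF.normalizer_part hx hloc hpF).1]
  set K := normalizer (E : Set G) with hK
  have hgx : g * x * g⁻¹ ∈ K := by
    rw [hN]; exact mem_map_of_mem _ hF.inv.norm
  have hxK : x ∈ K := hE.inv.norm
  obtain ⟨h, hh, hhx⟩ : ∃ h ∈ K, NX x (h * g) := by
    have ho : orderOf (⟨g * x * g⁻¹, hgx⟩ : K) = 3 := by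
      rw [Subgroup.orderOf_mk, ← (hx.conj g).order]
    rcases (hx.subgroup hxK).isConj_or ho with h | h <;> obtain ⟨c, hc⟩ := isConj_iff.1 h
    · refine ⟨(c⁻¹ : K), (c⁻¹ : K).2, Or.inl ?_⟩
      have h' : (c : G) * x * (c : G)⁻¹ = g * x * g⁻¹ := congrArg Subtype.val hc
      calc ((c⁻¹ : K) : G) * g * x * (((c⁻¹ : K) : G) * g)⁻¹ = (c : G)⁻¹ * (g * x * g⁻¹) * c := by
            rw [Subgroup.coe_inv]; group
        _ = x := by rw [← h']; group
    · refine ⟨(c⁻¹ : K), (c⁻¹ : K).2, Or.inr ?_⟩
      have h' : (c : G) * x⁻¹ * (c : G)⁻¹ = g * x * g⁻¹ := congrArg Subtype.val hc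
      calc ((c⁻¹ : K) : G) * g * x * (((c⁻¹ : K) : G) * g)⁻¹ = (c : G)⁻¹ * (g * x * g⁻¹) * c := by
            rw [Subgroup.coe_inv]; group
        _ = x⁻¹ := by rw [← h']; group
  -- `F` moved by `h * g` has the same normalizer as `E`
  have hmap : normalizer ((F.map (MulAut.conj (h * g)).toMonoidHom : Subgroup G) : Set G) = K := by
    rw [← map_equiv_normalizer_eq, map_mul, ← mem_normalizer_iff_map_conj_eq.1 (le_normalizer hh : h ∈ normalizer (K : Set G))]
    rw [hN, map_map]
    rfl
  have hcase : F.map (MulAut.conj (h * g)).toMonoidHom = F ∨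
      F.map (MulAut.conj (h * g)).toMonoidHom = tw t F := by
    rcases hx.normalizer_cases ht hhx with h' | ⟨k, hk, hk'⟩
    · exact Or.inl (mem_normalizer_iff_map_conj_eq.1 (zpowers_le.2 hF.inv.norm h'))
    · refine Or.inr ?_
      rw [hk', map_mul, tw]
      conv_rhs => rw [← mem_normalizer_iff_map_conj_eq.1 (zpowers_le.2 hF.inv.norm hk)]
      rw [map_map]
      rfl
  have hmem : Member x (F.map (MulAut.conj (h * g)).toMonoidHom) := by
    rcases hcase with e | e <;> rw [e]
    exacts [hF, hF.tw_member hx ht]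
  have hle := hNE.2.1 _ hmem.inv (hmap ▸ le_normalizer)
  have := hmem.max E hE.inv hle
  rw [this]
  exact hcase

/-- The part of a member is a full Sylow subgroup, except for `p = 2` and `t`-invariant members. -/
theorem Member.factorization_eq (hx : Setup x) (ht : t * x * t⁻¹ = x⁻¹) (hloc : Local x t)
    {F : Subgroup G} (hF : Member x F) (hpF : p ∣ Nat.card F) (hp3 : p ≠ 3)
    (hp2 : p = 2 → tw t F ≠ F) : (Nat.card G).factorization p = (Nat.card F).factorization p := by
  obtain ⟨P, hP⟩ := (isPGroup_part (p := p) F).exists_le_sylow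
  have hcard := card_part (p := p) F
  rcases eq_or_lt_of_le hP with heq | hlt
  · rw [heq, Sylow.card_eq_multiplicity] at hcard
    exact Nat.pow_right_injective (Fact.out : p.Prime).two_le hcard
  exfalso
  set L := (P : Subgroup G) ⊓ normalizer ((part p F) : Set G) with hL
  have hLlt : part p F < L := by
    refine lt_of_le_of_ne (le_inf hP le_normalizer) fun he => ?_
    have hnil : Group.IsNilpotent (P : Subgroup G) := P.2.isNilpotent
    have hlt' : (part p F).subgroupOf P < ⊤ := by
      rw [lt_top_iff_ne_top, ne_eq, subgroupOf_eq_top]; exact hlt.not_ge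
    obtain ⟨⟨g, hgP⟩, hg, hgD⟩ := SetLike.exists_of_lt (normalizerCondition_of_isNilpotent _ hlt')
    refine hgD (mem_subgroupOf.2 (he.symm ▸ mem_inf.2 ⟨hgP, mem_normalizer_iff.2 fun d => ?_⟩))
    constructor
    · intro hd
      exact mem_subgroupOf.1 ((mem_normalizer_iff.1 hg ⟨d, hP hd⟩).1 (mem_subgroupOf.2 hd))
    · intro hd
      have hdP : d ∈ (P : Subgroup G) := by
        have := mul_mem (mul_mem (inv_mem hgP) (hP hd)) hgP
        simpa [mul_assoc] using this
      exact mem_subgroupOf.1 ((mem_normalizer_iff.1 hg ⟨d, hdP⟩).2 (mem_subgroupOf.2 hd))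
  have hLN : L ≤ normalizer (F : Set G) := by
    rw [← (hF.normalizer_part hx hloc hpF).1]; exact inf_le_right
  obtain ⟨a, ha⟩ := IsPGroup.iff_card.1 (P.2.to_le (inf_le_left : L ≤ P))
  have hd : p ^ a ∣ Nat.card F * (if tw t F = F then 6 else 3) := by
    rw [← ha, ← hF.card_normalizer hx ht hloc]; exact card_dvd_of_le hLN
  have hp := (Fact.out : p.Prime)
  have hcop : (p ^ a).Coprime (if tw t F = F then 6 else 3) := by
    refine Nat.Coprime.pow_left _ (hp.coprime_iff_not_dvd.2 fun h => ?_)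
    have h3 : ∀ {q}, p ∣ q → q.Prime → p = q := fun h hq => (Nat.prime_dvd_prime_iff_eq hp hq).1 h
    split_ifs at h with htF
    · rcases hp.dvd_mul.1 (show p ∣ 2 * 3 from h) with e | e
      · exact hp2 (h3 e Nat.prime_two) htF
      · exact hp3 (h3 e Nat.prime_three)
    · exact hp3 (h3 h Nat.prime_three)
  have hle := (hp.pow_dvd_iff_le_factorization Nat.card_pos.ne').1 (hcop.dvd_of_dvd_mul_right hd)
  have : Nat.card L ≤ Nat.card (part p F) := by
    rw [ha, hcard]; exact Nat.pow_le_pow_right hp.pos hle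
  exact hLlt.ne (eq_of_le_of_card_ge hLlt.le this)

/-- Members sharing a prime where their parts are Sylow subgroups. -/
theorem Member.eq_of_shared (hx : Setup x) (ht : t * x * t⁻¹ = x⁻¹) (hloc : Local x t)
    {F E : Subgroup G} (hF : Member x F) (hE : Member x E) (hpF : p ∣ Nat.card F)
    (hpE : p ∣ Nat.card E) (hp3 : p ≠ 3) (hp2F : p = 2 → tw t F ≠ F)
    (hp2E : p = 2 → tw t E ≠ E) : E = F ∨ E = tw t F := by
  have hfullF : Nat.card (part p F) = p ^ (Nat.card G).factorization p := by
    rw [card_part, hF.factorization_eq hx ht hloc hpF hp3 hp2F]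
  have hfullE : Nat.card (part p E) = p ^ (Nat.card G).factorization p := by
    rw [card_part, hE.factorization_eq hx ht hloc hpE hp3 hp2E]
  obtain ⟨PF, hPF⟩ := (isPGroup_part (p := p) F).exists_le_sylow
  obtain ⟨PE, hPE⟩ := (isPGroup_part (p := p) E).exists_le_sylow
  have eF : part p F = PF := eq_of_le_of_card_ge hPF (by rw [hfullF, PF.card_eq_multiplicity])
  have eE : part p E = PE := eq_of_le_of_card_ge hPE (by rw [hfullE, PE.card_eq_multiplicity])
  obtain ⟨g, hg⟩ := MulAction.exists_smul_eq G PF PE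
  refine hF.eq_of_conj_part hx ht hloc hE hpF hpE g ?_
  rw [eE, eF, ← hg, Sylow.coe_subgroup_smul, Subgroup.pointwise_smul_def]
  rfl

end Conj

end CfsgLib.Recog.SelfCentThree
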