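import Cfsg.Agent.Lib.Recog.SelfCentThree.Outcome
import Cfsg.Agent.Lib.Recog.SelfCentThree.Members

/-!
# The local hypothesis from the structure of proper subgroups
-/

set_option autoImplicit false
set_option linter.all false
set_option maxHeartbeats 1000000

open scoped Classical

namespace CfsgLib.Recog.SelfCentThree

open Subgroup

variable {G : Type*} [Group G] [Finite G] {x t : G}

/-- The facts about `K` needed for both local shapes. -/
theorem localA_of_small (hx : Setup x) (D : Subgroup G) {K : Subgroup G}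
    (hK : normalizer (D : Set G) = K) (hxK : x ∈ K)
    {Q : Type*} [Group Q] [Finite Q] (π : K →* Q) (hπ : Function.Surjective π)
    (hk : ¬ 3 ∣ Nat.card π.ker) (hQ : Nat.card Q = 3 ∨ Nonempty (Q ≃* Equiv.Perm (Fin 3))) :
    LocalA x D := by
  rw [LocalA, hK]
  have hxk : Setup (⟨x, hxK⟩ : K) := hx.subgroup hxK
  set xk : K := ⟨x, hxK⟩ with hxkdef
  obtain ⟨hy, hy1⟩ := hxk.map_ne_one π hk
  obtain ⟨hsub, hnorm⟩ := small_quotient hQ hy hy1
  have hMn : K ≤ normalizer ((π.ker.map K.subtype : Subgroup G) : Set G) := by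
    refine le_trans ?_ (le_normalizer_map K.subtype)
    rw [normalizer_eq_top, ← MonoidHom.range_eq_map, range_subtype]
  refine ⟨π.ker.map K.subtype, ⟨hMn hxK, ?_⟩, map_subtype_le _, hMn, fun H hH hHK => ?_, ?_⟩
  · rw [card_map_of_injective (subtype_injective K)]
    exact hk
  · have hbot : (H.subgroupOf K).map π = ⊥ := by
      refine hsub _ ?_ fun h => hH.three ?_
      · refine le_normalizer_map π (mem_map_of_mem π ?_)
        rw [mem_normalizer_iff]
        intro h
        simp only [mem_subgroupOf, Subgroup.coe_mul, Subgroup.coe_inv]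
        exact mem_normalizer_iff.1 hH.norm _
      · rw [← Nat.card_congr (subgroupOfEquivOfLe hHK).toEquiv]
        exact h.trans (card_dvd_of_surjective _ (MonoidHom.subgroupMap_surjective π _))
    intro g hg
    refine ⟨⟨g, hHK hg⟩, ?_, rfl⟩
    exact (Subgroup.map_eq_bot_iff _).1 hbot (mem_subgroupOf.2 hg)
  · intro g hg
    rcases hnorm (π ⟨g, hg⟩) with h | h
    · obtain ⟨n, hn, k, hk', he⟩ := (hxk.exists_mul_of_map π hk).1 h
      exact ⟨n, mem_map_of_mem _ hn, k, Or.inl (congrArg Subtype.val hk'), congrArg Subtype.val he⟩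
    · obtain ⟨n, hn, k, hk', he⟩ := (hxk.exists_mul_of_map π hk).2 h
      exact ⟨n, mem_map_of_mem _ hn, k, Or.inr (congrArg Subtype.val hk'), congrArg Subtype.val he⟩

theorem localB_of_alt_five (hx : Setup x) (ht : t * x * t⁻¹ = x⁻¹) {D : Subgroup G} (hD : SInv x D)
    {K : Subgroup G} (hK : normalizer (D : Set G) = K) (hxK : x ∈ K)
    (π : K →* alternatingGroup (Fin 5)) (hπ : Function.Surjective π)
    (hker : ∀ n ∈ π.ker, n * n = 1) (hy : π ⟨x, hxK⟩ = fy) : LocalB x t D := by
  rw [LocalB, hK]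
  haveI : Fact (Nat.Prime 2) := ⟨Nat.prime_two⟩
  have hxk : Setup (⟨x, hxK⟩ : K) := hx.subgroup hxK
  have h2 : IsPGroup 2 π.ker := fun n => ⟨1, Subtype.ext (by
    rw [pow_one, SubmonoidClass.coe_pow, pow_two]; exact hker n n.2)⟩
  have hk : ¬ 3 ∣ Nat.card π.ker := by
    obtain ⟨k, hk⟩ := IsPGroup.iff_card.1 h2
    rw [hk]
    exact fun h => absurd ((Nat.prime_dvd_prime_iff_eq Nat.prime_three Nat.prime_two).1
      (Nat.prime_three.dvd_of_dvd_pow h)) (by norm_num)
  -- an inverting element inside the normalizer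
  obtain ⟨τ, hτ⟩ := exists_invert_fy
  obtain ⟨g₀, hg₀⟩ := hπ τ
  obtain ⟨n, hn, k, hkx, hge⟩ := (hxk.exists_mul_of_map π hk (g := g₀)).2 (by rw [hg₀, hy, hτ])
  have hπk : π k = τ := by rw [← hg₀, hge, map_mul, MonoidHom.mem_ker.1 hn, one_mul]
  have hkx' : (k : G) * x * (k : G)⁻¹ = x⁻¹ := congrArg Subtype.val hkx
  set P := (fVSub.comap π).map K.subtype with hP
  have hmemP : ∀ {g : G} (hg : g ∈ K), g ∈ P ↔ π ⟨g, hg⟩ ∈ fV := fun {g} hg => by
    rw [hP, mem_map]
    constructor
    · rintro ⟨a, ha, rfl⟩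
      exact ha
    · exact fun h => ⟨⟨g, hg⟩, h, rfl⟩
  have hPcard : Nat.card P = 4 * Nat.card π.ker := by
    rw [hP, card_map_of_injective (subtype_injective K)]
    have h1 := (π.ker.subgroupOf (fVSub.comap π)).card_mul_index
    rw [Nat.card_congr (subgroupOfEquivOfLe (MonoidHom.ker_le_comap π fVSub)).toEquiv,
      show π.ker.subgroupOf (fVSub.comap π) = (π.comp (fVSub.comap π).subtype).ker from rfl,
      index_ker] at h1
    have hr : (π.comp (fVSub.comap π).subtype).range = fVSub := by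
      rw [MonoidHom.range_comp, range_subtype, map_comap_eq_self_of_surjective hπ]
    rw [hr, card_fVSub] at h1
    omega
  have hP3 : ¬ 3 ∣ Nat.card P := fun h => by
    rw [hPcard] at h
    rcases (Nat.prime_three.dvd_mul).1 h with h | h
    · omega
    · exact hk h
  have hP2 : IsPGroup 2 P := by
    obtain ⟨k, hk⟩ := IsPGroup.iff_card.1 h2
    exact IsPGroup.of_card (n := 2 + k) (by rw [hPcard, hk, pow_add]; norm_num)
  have hPi : SInv x P := by
    refine ⟨mem_normalizer_iff.2 fun g => ⟨fun h => ?_, fun h => ?_⟩, hP3⟩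
    · have hg : g ∈ K := map_subtype_le _ h
      have hg' : x * g * x⁻¹ ∈ K := mul_mem (mul_mem hxK hg) (inv_mem hxK)
      rw [hmemP hg] at h
      rw [hmemP hg', show (⟨x * g * x⁻¹, hg'⟩ : K) = ⟨x, hxK⟩ * ⟨g, hg⟩ * ⟨x, hxK⟩⁻¹ from rfl,
        map_mul, map_mul, map_inv, hy]
      exact (fy_norm _ h).1
    · have hg' : x * g * x⁻¹ ∈ K := map_subtype_le _ h
      have hg : g ∈ K := by
        have := mul_mem (mul_mem (inv_mem hxK) hg') hxK
        simpa [mul_assoc] using this
      rw [hmemP hg'] at h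
      rw [hmemP hg]
      rw [show (⟨x * g * x⁻¹, hg'⟩ : K) = ⟨x, hxK⟩ * ⟨g, hg⟩ * ⟨x, hxK⟩⁻¹ from rfl,
        map_mul, map_mul, map_inv, hy] at h
      have := (fy_norm _ h).2
      simpa [mul_assoc] using this
  -- every invariant subgroup inside the normalizer lies in `P` or in its image
  have htw : ∀ (g : G) (hg : g ∈ K), π k * π ⟨g, hg⟩ * (π k)⁻¹ ∈ fV → g ∈ tw t P := by
    intro g hg h
    rw [mem_tw hx ht]
    rcases hx.normalizer_cases ht (g := (k : G)) (Or.inr hkx') with h' | ⟨c, hc, hkc⟩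
    · exfalso
      obtain ⟨i, hi⟩ := mem_zpowers_iff.1 h'
      refine hx.inv_ne ?_
      rw [← hkx', ← hi]
      group
    · have hmem : (k : G) * g * (k : G)⁻¹ ∈ P := by
        rw [hmemP (mul_mem (mul_mem k.2 hg) (inv_mem k.2))]
        rwa [show (⟨(k : G) * g * (k : G)⁻¹, _⟩ : K) = k * ⟨g, hg⟩ * k⁻¹ from rfl, map_mul, map_mul,
          map_inv]
      obtain ⟨i, rfl⟩ := mem_zpowers_iff.1 hc
      rw [hkc] at hmem
      have hn : t * x ^ i * t⁻¹ = x ^ (-i) := by
        rw [← conj_zpow, ht, inv_zpow, zpow_neg]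
      have h1 : x ^ i * (t * (x ^ i * g * (x ^ i)⁻¹) * t⁻¹) * (x ^ i)⁻¹ = t * g * t⁻¹ := by
        calc _ = x ^ i * ((t * x ^ i * t⁻¹) * (t * g * t⁻¹) * (t * x ^ i * t⁻¹)⁻¹) * (x ^ i)⁻¹ := by group
          _ = _ := by rw [hn]; group
      rw [← h1]
      refine (mem_normalizer_iff.1 (zpow_mem hPi.norm i) _).1 ?_
      convert hmem using 1
      group
  have hcases : ∀ H, SInv x H → H ≤ K → H ≤ P ∨ H ≤ tw t P := by
    intro H hH hHK
    have hgood : ∀ g (hg : g ∈ H), π ⟨g, hHK hg⟩ ∈ fV ∨ τ * π ⟨g, hHK hg⟩ * τ⁻¹ ∈ fV := by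
      intro g hg
      refine good_cases τ hτ _ ?_ ?_
      · by_contra hcon
        push Not at hcon
        have h3 : orderOf (π ⟨g, hHK hg⟩) = 3 := by
          haveI : Fact (Nat.Prime 3) := ⟨Nat.prime_three⟩
          exact orderOf_eq_prime (by rw [pow_succ, pow_two]; exact hcon.1) hcon.2
        refine hH.three (h3 ▸ ((orderOf_map_dvd π _).trans ?_))
        rw [Subgroup.orderOf_mk]
        exact Subgroup.orderOf_dvd_natCard H hg
      · have h : Commute (⟨g, hHK hg⟩ : K) (⟨x, hxK⟩ * ⟨g, hHK hg⟩ * ⟨x, hxK⟩⁻¹) :=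
          Subtype.ext (hH.commute_self hx hg).eq
        have := (h.map π).eq
        rwa [map_mul, map_mul, map_inv, hy] at this
    by_contra hcon
    push Not at hcon
    obtain ⟨⟨a, ha, haP⟩, b, hb, hbP⟩ := SetLike.not_le_iff_exists.1 hcon.1, SetLike.not_le_iff_exists.1 hcon.2
    have ha' : τ * π ⟨a, hHK ha⟩ * τ⁻¹ ∈ fV :=
      (hgood a ha).resolve_left fun h => haP ((hmemP (hHK ha)).2 h)
    have hb' : π ⟨b, hHK hb⟩ ∈ fV :=
      (hgood b hb).resolve_right fun h => hbP (htw b (hHK hb) (by rwa [hπk]))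
    rcases good_incompatible τ hτ _ hb' _ ha' (by
      rw [← map_mul]; exact hgood (b * a) (mul_mem hb ha)) with h | h
    · exact hbP (htw b (hHK hb) (by rwa [hπk]))
    · exact haP ((hmemP (hHK ha)).2 h)
  have hDP : D < P := by
    have hDK : D ≤ K := hK ▸ le_normalizer
    have hDbot : (D.subgroupOf K).map π = ⊥ := by
      haveI : (D.subgroupOf K).Normal := normal_subgroupOf_of_le_normalizer hK.ge
      haveI := alternatingGroup.isSimpleGroup_five
      refine ((Normal.map inferInstance π hπ).eq_bot_or_eq_top).resolve_right fun h => hD.three ?_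
      rw [← Nat.card_congr (subgroupOfEquivOfLe hDK).toEquiv]
      refine (?_ : 3 ∣ Nat.card ((D.subgroupOf K).map π)).trans
        (card_dvd_of_surjective _ (MonoidHom.subgroupMap_surjective π _))
      rw [h, card_top, nat_card_alternatingGroup, Nat.card_fin]
      exact ⟨20, rfl⟩
    have hDker : ∀ d (hd : d ∈ D), π ⟨d, hDK hd⟩ = 1 := fun d hd =>
      MonoidHom.mem_ker.1 ((Subgroup.map_eq_bot_iff _).1 hDbot (mem_subgroupOf.2 hd))
    refine lt_of_le_of_ne (fun d hd => (hmemP (hDK hd)).2 ?_) fun e => ?_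
    · rw [hDker d hd]; simp [fV]
    · obtain ⟨⟨a, ha⟩, hae⟩ := hπ fa
      have : a ∈ P := (hmemP ha).2 (by rw [hae]; simp [fV])
      rw [← e] at this
      have := hDker a this
      rw [hae] at this
      exact fy_facts.2.2.2.2.2.2.2 this
  have hDsq : ∀ d ∈ D, d * d = 1 := fun d hd => by
    have hDK : D ≤ K := hK ▸ le_normalizer
    rcases hcases D hD hDK with h | h
    all_goals
      haveI : (D.subgroupOf K).Normal := normal_subgroupOf_of_le_normalizer hK.ge
      haveI := alternatingGroup.isSimpleGroup_five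
      have hDbot : (D.subgroupOf K).map π = ⊥ := by
        refine ((Normal.map inferInstance π hπ).eq_bot_or_eq_top).resolve_right fun h => hD.three ?_
        rw [← Nat.card_congr (subgroupOfEquivOfLe hDK).toEquiv]
        refine (?_ : 3 ∣ Nat.card ((D.subgroupOf K).map π)).trans
          (card_dvd_of_surjective _ (MonoidHom.subgroupMap_surjective π _))
        rw [h, card_top, nat_card_alternatingGroup, Nat.card_fin]
        exact ⟨20, rfl⟩
      exact congrArg Subtype.val (hker ⟨d, hDK hd⟩ ((Subgroup.map_eq_bot_iff _).1 hDbot (mem_subgroupOf.2 hd)))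
  have hPt : SInv x (tw t P) := hPi.conj_t hx ht
  refine ⟨hDsq, ⟨P, hPi, hDP⟩, fun H hH hHK => ?_, fun H₁ H₂ h1 h1K h2 h2K => ?_⟩
  · rcases hcases H hH hHK with h | h
    · exact hP2.to_le h
    · exact (hP2.map _).to_le h
  · rcases hcases H₁ h1 h1K with a | a <;> rcases hcases H₂ h2 h2K with b | b
    · exact Or.inl ⟨P, hPi, a, b⟩
    · exact Or.inr ⟨P, hPi, a, b⟩
    · exact Or.inr ⟨tw t P, hPt, a, by rwa [tw_tw hx ht]⟩
    · exact Or.inl ⟨tw t P, hPt, a, b⟩

/-- The local hypothesis in a simple group whose proper subgroups satisfy the theorem. -/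
theorem local_of_outcome [IsSimpleGroup G] (hx : Setup x) (ht : t * x * t⁻¹ = x⁻¹)
    (ih : ∀ K : Subgroup G, K ≠ ⊤ → x ∈ K → Outcome K) : Local x t := by
  intro D hD1 hD
  have hne : normalizer (D : Set G) ≠ ⊤ := fun h => by
    rcases (normalizer_eq_top_iff.1 h).eq_bot_or_eq_top with e | e
    · exact hD1 e
    · have := hD.three
      rw [e, card_top] at this
      exact this hx.three_dvd
  rcases ih _ hne hD.norm with ⟨N, hN, -, hcop, hQ⟩ | ⟨N, hN, hc, hsq, ⟨e⟩⟩ | ⟨⟨e⟩⟩
  · left
    have hk : ¬ 3 ∣ Nat.card (QuotientGroup.mk' N).ker := by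
      rw [QuotientGroup.ker_mk']
      exact fun h => absurd (Nat.dvd_gcd h (dvd_refl 3)) (by rw [hcop]; norm_num)
    exact localA_of_small hx D rfl hD.norm (QuotientGroup.mk' N) (QuotientGroup.mk'_surjective N) hk hQ
  · right
    set π₀ := e.toMonoidHom.comp (QuotientGroup.mk' N) with hπ₀
    have hsur : Function.Surjective π₀ := e.surjective.comp (QuotientGroup.mk'_surjective N)
    have hker : ∀ n ∈ π₀.ker, n * n = 1 := fun n hn => by
      rw [← pow_two]
      refine hsq n ((QuotientGroup.eq_one_iff n).1 (e.injective ?_))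
      rw [map_one]
      exact hn
    have hk3 : ¬ 3 ∣ Nat.card π₀.ker := fun h => by
      haveI := Fact.mk Nat.prime_three
      obtain ⟨z, hz⟩ := exists_prime_orderOf_dvd_card' 3 h
      have := hker z z.2
      have h2 : orderOf (z : normalizer (D : Set G)) ∣ 2 :=
        orderOf_dvd_of_pow_eq_one (by rw [pow_two]; exact this)
      rw [Subgroup.orderOf_coe, hz] at h2
      omega
    obtain ⟨h3, h1⟩ := (hx.subgroup hD.norm).map_ne_one π₀ hk3
    obtain ⟨c, hc'⟩ := exists_conj_fy _ h3 h1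
    refine localB_of_alt_five hx ht hD rfl hD.norm ((MulAut.conj c).toMonoidHom.comp π₀)
      ((MulAut.conj c).surjective.comp hsur) (fun n hn => hker n ?_) hc'
    rw [MonoidHom.mem_ker]
    exact (MulAut.conj c).injective ((MonoidHom.mem_ker.1 hn).trans (map_one (MulAut.conj c)).symm)
  · exfalso
    haveI : Fact (Nat.Prime 7) := ⟨by norm_num⟩
    haveI := simple_seven
    set K := normalizer (D : Set G)
    haveI : Nontrivial K := e.toEquiv.nontrivial
    haveI : IsSimpleGroup K := IsSimpleGroup.isSimpleGroup_of_surjective e.symm.toMonoidHom e.symm.surjective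
    haveI : (D.subgroupOf K).Normal := normal_subgroupOf_of_le_normalizer le_rfl
    have hc : Nat.card (D.subgroupOf K) = Nat.card D :=
      Nat.card_congr (subgroupOfEquivOfLe le_normalizer).toEquiv
    rcases (inferInstance : (D.subgroupOf K).Normal).eq_bot_or_eq_top with h | h
    · rw [h, card_bot] at hc
      exact hD1 (Subgroup.card_eq_one.1 hc.symm)
    · rw [h, card_top] at hc
      exact hD.three (hc ▸ (hx.subgroup hD.norm).three_dvd)

end CfsgLib.Recog.SelfCentThree
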