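import Cfsg.Agent.Lib.Recog.SelfCentThree.Basic

/-!
# Invariant subgroups below a simple quotient

If every element of order three of a quotient acts without fixed points on an abelian invariant
subgroup, a subgroup `W` of the quotient with `(w y)³ = 1` for all its elements centralizes it.
-/

set_option autoImplicit false
set_option linter.all false

namespace CfsgLib.Recog.SelfCentThree

open Subgroup
open scoped Classical

/-- If every `w * y` has norm zero, then `W` acts trivially. -/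
theorem fixed_of_norm {V H : Type*} [CommGroup V] [Finite V] [Group H] (φ : H →* MulAut V) (y : H)
    (W : Finset H) (h1 : (1 : H) ∈ W) (hmul : ∀ u ∈ W, ∀ w ∈ W, u * w ∈ W)
    (hσ : W.image (fun w => w * (y * w * y⁻¹)) = W) (hcop : (Nat.card V).Coprime W.card)
    (hnorm : ∀ w ∈ W, ∀ v : V, v * φ (w * y) v * φ (w * y * (w * y)) v = 1) :
    ∀ w ∈ W, ∀ v : V, φ w v = v := by
  intro u hu v
  set S : V →* V := ∏ w ∈ W, (φ w).toMonoidHom with hS
  have hSv : ∀ v, S v = ∏ w ∈ W, φ w v := fun v => MonoidHom.finsetProd_apply _ _ _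
  have hinj : Set.InjOn (fun w => w * (y * w * y⁻¹)) (W : Set H) :=
    Finset.card_image_iff.1 (by rw [hσ])
  have h2 : ∀ w, w * y * (w * y) = w * (y * w * y⁻¹) * (y * y) := fun w => by group
  have hprod : v ^ W.card * S (φ y v) * S (φ (y * y) v) = 1 := by
    have := Finset.prod_eq_one (fun w hw => hnorm w hw v)
    rw [Finset.prod_mul_distrib, Finset.prod_mul_distrib, Finset.prod_const] at this
    have e : ∏ w ∈ W, φ (w * y * (w * y)) v = S (φ (y * y) v) := by
      rw [hSv]
      conv_rhs => rw [← hσ, Finset.prod_image hinj]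
      refine Finset.prod_congr rfl fun w _ => ?_
      rw [h2, map_mul, MulAut.mul_apply]
    have e' : ∏ w ∈ W, φ (w * y) v = S (φ y v) := by
      rw [hSv]
      exact Finset.prod_congr rfl fun w _ => by rw [map_mul, MulAut.mul_apply]
    rwa [e, e'] at this
  have hone : S v * S (φ y v) * S (φ (y * y) v) = 1 := by
    have := hnorm 1 h1 v
    rw [one_mul] at this
    rw [← map_mul, ← map_mul, this, map_one]
  have hpow : v ^ W.card = S v := by
    rw [mul_assoc] at hprod hone
    exact mul_right_cancel (hprod.trans hone.symm)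
  have hfix : φ u (S v) = S v := by
    rw [hSv, map_prod]
    refine Finset.prod_bij (fun w _ => u * w) (fun w hw => hmul u hu w hw)
      (fun a _ b _ h => mul_left_cancel h) ?_ (fun w _ => by rw [map_mul, MulAut.mul_apply])
    intro b hb
    obtain ⟨a, ha, hab⟩ := Finset.surj_on_of_inj_on_of_card_le (fun w (_ : w ∈ W) => u * w)
      (fun w hw => hmul u hu w hw) (fun a₁ a₂ _ _ h => mul_left_cancel h) le_rfl b hb
    exact ⟨a, ha, hab.symm⟩
  rw [← hpow, map_pow] at hfix
  exact (powCoprime hcop).injective hfix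

variable {G : Type*} [Group G] [Finite G] {x : G}

/-- Conjugate of `r * x` to `x` for `r` in an invariant subgroup. -/
theorem SInv.exists_conj_mul (hx : Setup x) {R : Subgroup G} (hR : SInv x R) {r : G} (hr : r ∈ R) :
    ∃ a ∈ R, r * x = a⁻¹ * x * a := by
  obtain ⟨a, ha, rfl⟩ := hR.mul_cube hx hr
  exact ⟨a, ha, by group⟩

theorem SInv.inv_setup (hx : Setup x) {R : Subgroup G} (hR : SInv x R) : SInv x⁻¹ R :=
  ⟨inv_mem hR.norm, hR.three⟩

theorem SInv.of_normal {R : Subgroup G} [hn : R.Normal] (h : ¬ 3 ∣ Nat.card R) (x : G) : SInv x R :=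
  ⟨by rw [normalizer_eq_top]; exact mem_top x, h⟩

/-- An element of order three modulo an invariant normal subgroup lifts to one of order three. -/
theorem exists_lift_of_cube {Q : Type*} [Group Q] (π : G →* Q) (hπ : Function.Surjective π)
    (hk : ¬ 3 ∣ Nat.card π.ker) {q : Q} (hq : q * q * q = 1) (hq1 : q ≠ 1) :
    ∃ g : G, π g = q ∧ orderOf g = 3 := by
  obtain ⟨g₀, rfl⟩ := hπ q
  set m := Nat.card π.ker with hm
  have hmod : m * m % 3 = 1 := by
    rw [Nat.mul_mod]
    rcases (by omega : m % 3 = 1 ∨ m % 3 = 2) with e | e <;> rw [e]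
  have h3 : g₀ ^ 3 ∈ π.ker := by
    rw [MonoidHom.mem_ker, map_pow, pow_succ, pow_two, hq]
  have hq3 : π g₀ ^ 3 = 1 := by rw [pow_succ, pow_two, hq]
  have hg : π (g₀ ^ (m * m)) = π g₀ := by
    conv_lhs => rw [← Nat.mod_add_div (m * m) 3, hmod, map_pow, pow_add, pow_mul, hq3, one_pow,
      mul_one, pow_one]
  refine ⟨g₀ ^ (m * m), hg, ?_⟩
  haveI : Fact (Nat.Prime 3) := ⟨Nat.prime_three⟩
  refine orderOf_eq_prime ?_ fun e => hq1 (by rw [← hg, e, map_one])
  rw [← pow_mul, mul_comm, pow_mul]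
  have := congrArg (Subtype.val : π.ker → G) (pow_card_eq_one' (x := (⟨g₀ ^ 3, h3⟩ : π.ker)))
  rw [SubmonoidClass.coe_pow] at this
  rw [OneMemClass.coe_one] at this
  rw [pow_mul, show (g₀ ^ 3) ^ m = 1 from this, one_pow]

/-- An abelian normal subgroup of order prime to three that is centralized by the kernel of a map
onto a simple group is trivial, if that group has a subset `W` as in `fixed_of_norm`. -/
theorem module_trivial (hx : Setup x) {Q : Type*} [Group Q] [IsSimpleGroup Q] (π : G →* Q)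
    (hπ : Function.Surjective π) (hk : ¬ 3 ∣ Nat.card π.ker) (V : Subgroup G) [V.Normal]
    (hV3 : ¬ 3 ∣ Nat.card V) (hVc : ∀ a ∈ V, ∀ b ∈ V, a * b = b * a)
    (hVk : ∀ v ∈ V, ∀ k ∈ π.ker, k * v = v * k)
    {H : Type*} [Group H] (f : H →* Q) (y : H) (W : Finset H) (h1 : (1 : H) ∈ W)
    (hmul : ∀ u ∈ W, ∀ w ∈ W, u * w ∈ W)
    (hσ : W.image (fun w => w * (y * w * y⁻¹)) = W) (hcop : (Nat.card V).Coprime W.card)
    (hord : ∀ w ∈ W, f (w * y) * f (w * y) * f (w * y) = 1 ∧ f (w * y) ≠ 1)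
    (hne : ∃ w ∈ W, f w ≠ 1) : V = ⊥ := by
  letI : CommGroup V :=
    { (inferInstance : Group V) with mul_comm := fun a b => Subtype.ext (hVc _ a.2 _ b.2) }
  have hker : π.ker ≤ (MulAut.conjNormal (H := V)).ker := fun k hk' => by
    rw [MonoidHom.mem_ker]
    ext v
    rw [MulAut.conjNormal_apply, hVk _ v.2 k hk', mul_inv_cancel_right]
    rfl
  set ψ : Q →* MulAut V := π.liftOfSurjective hπ ⟨MulAut.conjNormal, hker⟩ with hψ
  have hψπ : ∀ g (v : V), (ψ (π g) v : G) = g * v * g⁻¹ := fun g v => by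
    have h : ψ (π g) = MulAut.conjNormal g :=
      MonoidHom.liftOfRightInverse_comp_apply π _ _ _ g
    rw [h, MulAut.conjNormal_apply]
  have hfix : ∀ w ∈ W, ∀ v : V, ψ (f w) v = v := by
    refine fixed_of_norm (ψ.comp f) y W h1 hmul hσ hcop fun w hw v => ?_
    obtain ⟨h3, h31⟩ := hord w hw
    obtain ⟨g, hg, hgo⟩ := exists_lift_of_cube π hπ hk h3 h31
    have hgx := hx.of_order hgo
    simp only [MonoidHom.comp_apply]
    rw [map_mul f (w * y) (w * y), ← hg, ← map_mul π]
    refine Subtype.ext ((SInv.of_normal hV3 g).fpf hgx (SetLike.coe_mem _) ?_)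
    show ((v * ψ (π g) v * ψ (π (g * g)) v : V) : G) * g =
      g * ((v * ψ (π g) v * ψ (π (g * g)) v : V) : G)
    simp only [Subgroup.coe_mul, hψπ]
    set a := (v : G) with ha
    have hb : g * a * g⁻¹ ∈ V := Normal.conj_mem inferInstance _ v.2 g
    have hc : g * g * a * (g * g)⁻¹ ∈ V := Normal.conj_mem inferInstance _ v.2 (g * g)
    have hcycle : g * (a * (g * a * g⁻¹) * (g * g * a * (g * g)⁻¹)) * g⁻¹ =
        a * (g * a * g⁻¹) * (g * g * a * (g * g)⁻¹) := by
      calc g * (a * (g * a * g⁻¹) * (g * g * a * (g * g)⁻¹)) * g⁻¹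
          = (g * a * g⁻¹) * (g * g * a * (g * g)⁻¹) * ((g * g * g) * a * (g * g * g)⁻¹) := by group
        _ = (g * a * g⁻¹) * (g * g * a * (g * g)⁻¹) * a := by rw [hgx.cube, one_mul, inv_one, mul_one]
        _ = _ := by
          rw [hVc _ (mul_mem hb hc) _ v.2, ← mul_assoc]
    exact (mul_inv_eq_iff_eq_mul.1 hcycle).symm
  obtain ⟨w, hw, hw1⟩ := hne
  have hψtop : ψ.ker = ⊤ := by
    refine (MonoidHom.normal_ker ψ).eq_bot_or_eq_top.resolve_left fun hb => hw1 ?_
    rw [← Subgroup.mem_bot, ← hb, MonoidHom.mem_ker]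
    exact MulEquiv.ext (hfix w hw)
  rw [eq_bot_iff_forall]
  intro v hv
  refine (SInv.of_normal hV3 x).fpf hx hv (mul_inv_eq_iff_eq_mul.1 ?_).symm
  rw [← hψπ x ⟨v, hv⟩, show ψ (π x) = 1 from MonoidHom.mem_ker.1 (hψtop ▸ mem_top _)]
  rfl

/-- The data for `module_trivial` given by a four-group normalized by an element of order three. -/
theorem klein_data {Q : Type*} [Group Q] {a b y : Q} (ha : a * a = 1) (hb : b * b = 1)
    (hab : a * b = b * a) (hy : y * a * y⁻¹ = b) (hy' : y * b * y⁻¹ = a * b)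
    (hy3 : y * y * y = 1) (ha1 : a ≠ 1) (hy1 : y ≠ 1) :
    ∃ W : Finset Q, W.card = 4 ∧ (1 : Q) ∈ W ∧ (∀ u ∈ W, ∀ w ∈ W, u * w ∈ W) ∧
      W.image (fun w => w * (y * w * y⁻¹)) = W ∧
      (∀ w ∈ W, w * y * (w * y) * (w * y) = 1 ∧ w * y ≠ 1) ∧ ∃ w ∈ W, w ≠ 1 := by
  have hb1 : b ≠ 1 := fun e => ha1 (conj_eq_one_iff.1 (hy.trans e))
  have hne : a ≠ b := fun e => ha1 (by
    have h1 : a * b = b := by rw [← hy', ← e, hy]; exact e.symm
    exact mul_eq_right.1 h1)
  have hab1 : a * b ≠ 1 := fun e => hne (by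
    calc a = a * (b * b) := by rw [hb, mul_one]
      _ = b := by rw [← mul_assoc, e, one_mul])
  have e1 : a * (a * b) = b := by rw [← mul_assoc, ha, one_mul]
  have e2 : b * (a * b) = a := by rw [hab, ← mul_assoc, hb, one_mul]
  have e3 : a * b * a = b := by rw [hab, mul_assoc, ha, mul_one]
  have e4 : a * b * b = a := by rw [mul_assoc, hb, mul_one]
  have e5 : a * b * (a * b) = 1 := by rw [← mul_assoc, e3, hb]
  have hmem : ∀ u ∈ ({1, a, b, a * b} : Finset Q), u = 1 ∨ u = a ∨ u = b ∨ u = a * b := fun u hu => by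
    simpa using hu
  have hsq : ∀ u ∈ ({1, a, b, a * b} : Finset Q), u * u = 1 := fun u hu => by
    rcases hmem u hu with rfl | rfl | rfl | rfl <;> simp [ha, hb, e5]
  have hy'' : y * (a * b) * y⁻¹ = a := by
    rw [show y * (a * b) * y⁻¹ = (y * a * y⁻¹) * (y * b * y⁻¹) by group, hy, hy', e2]
  refine ⟨{1, a, b, a * b}, ?_, by simp, ?_, ?_, ?_, a, by simp, ha1⟩
  · have h14 : (1 : Q) ≠ a * b := Ne.symm hab1
    have h24 : a ≠ a * b := fun e => hb1 (left_eq_mul.1 e)
    have h34 : b ≠ a * b := fun e => ha1 (right_eq_mul.1 e)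
    simp [Ne.symm ha1, Ne.symm hb1, h14, hne, h24, h34]
  · intro u hu w hw
    rcases hmem u hu with rfl | rfl | rfl | rfl <;> rcases hmem w hw with rfl | rfl | rfl | rfl <;>
      simp [ha, hb, ← hab, e1, e2, e3, e4, e5]
  · simp only [Finset.image_insert, Finset.image_singleton, hy, hy', hy'', one_mul, mul_one,
      mul_inv_cancel, e2, e3]
    ext u
    simp only [Finset.mem_insert, Finset.mem_singleton]
    tauto
  · intro w hw
    refine ⟨?_, fun e => hy1 ?_⟩
    · have hy2 : y * y * w * (y * y)⁻¹ = y * (y * w * y⁻¹) * y⁻¹ := by group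
      calc w * y * (w * y) * (w * y)
          = w * (y * w * y⁻¹) * (y * y * w * (y * y)⁻¹) * (y * y * y) := by group
        _ = w * (y * w * y⁻¹) * (y * (y * w * y⁻¹) * y⁻¹) := by rw [hy3, mul_one, hy2]
        _ = 1 := by
          rcases hmem w hw with rfl | rfl | rfl | rfl <;>
            simp only [hy, hy', hy'', one_mul, mul_one, mul_inv_cancel, e1, e2, e3, e4, e5, ha, hb]
    · have hyw : y = w⁻¹ := eq_inv_of_mul_eq_one_right e
      have : y * y = 1 := by rw [hyw, ← _root_.mul_inv_rev, hsq w hw, inv_one]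
      calc y = y * y * y := by rw [this, one_mul]
        _ = 1 := hy3

end CfsgLib.Recog.SelfCentThree
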