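import Cfsg.Agent.Lib.Recog.SelfCentThree.Extensions

/-!
# The three outcomes, and the image of invariant subgroups in a quotient
-/

set_option autoImplicit false
set_option linter.all false
set_option maxRecDepth 100000

open scoped Classical

namespace CfsgLib.Recog.SelfCentThree

open Subgroup

universe u

/-- The conclusion of the theorem of Feit and Thompson. -/
def Outcome (G : Type u) [Group G] : Prop :=
  (∃ (N : Subgroup G) (hN : N.Normal), Group.IsNilpotent N ∧ (Nat.card N).Coprime 3 ∧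
      (Nat.card (G ⧸ N) = 3 ∨ Nonempty (G ⧸ N ≃* Equiv.Perm (Fin 3)))) ∨
  (∃ (N : Subgroup G) (hN : N.Normal), IsMulCommutative N ∧ (∀ n ∈ N, n ^ 2 = 1) ∧
      Nonempty (G ⧸ N ≃* alternatingGroup (Fin 5))) ∨
  Nonempty (G ≃* Matrix.ProjectiveSpecialLinearGroup (Fin 2) (ZMod 7))

theorem perm_three_centralizer : ∀ h : Equiv.Perm (Fin 3), h * h = 1 → ∀ y : Equiv.Perm (Fin 3),
    y * y * y = 1 → y = 1 ∨ ¬ h * y = y * h ∨ h = 1 := by decide +kernel

theorem perm_three_normalizes : ∀ g y : Equiv.Perm (Fin 3),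
    y * y * y = 1 → y = 1 ∨ g * y * g⁻¹ = y ∨ g * y * g⁻¹ = y⁻¹ := by decide +kernel

section Quotient

variable {Q : Type*} [Group Q] [Finite Q]

/-- In a group of order three or isomorphic to `S₃`, a `3'`-subgroup normalized by an element of
order three is trivial, and every element normalizes the element of order three. -/
theorem small_quotient (hQ : Nat.card Q = 3 ∨ Nonempty (Q ≃* Equiv.Perm (Fin 3))) {y : Q}
    (hy : y * y * y = 1) (hy1 : y ≠ 1) :
    (∀ H : Subgroup Q, y ∈ normalizer (H : Set Q) → ¬ 3 ∣ Nat.card H → H = ⊥) ∧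
      ∀ g : Q, g * y * g⁻¹ = y ∨ g * y * g⁻¹ = y⁻¹ := by
  rcases hQ with h | ⟨⟨e⟩⟩
  · haveI := Fact.mk Nat.prime_three
    refine ⟨fun H _ h3 => ?_, fun g => Or.inl ?_⟩
    · refine Subgroup.card_eq_one.1 ?_
      have hd := card_subgroup_dvd_card H
      rw [h] at hd
      rcases (Nat.dvd_prime Nat.prime_three).1 hd with e | e
      · exact e
      · exact absurd (dvd_of_eq e.symm) h3
    · haveI : IsCyclic Q := isCyclic_of_prime_card h
      obtain ⟨c, hc⟩ := IsCyclic.exists_generator (α := Q)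
      obtain ⟨i, rfl⟩ := mem_zpowers_iff.1 (hc g)
      obtain ⟨j, rfl⟩ := mem_zpowers_iff.1 (hc y)
      group
  · have he : e y * e y * e y = 1 := by rw [← map_mul, ← map_mul, hy, map_one]
    have he1 : e y ≠ 1 := fun h => hy1 (e.injective (h.trans (map_one e).symm))
    refine ⟨fun H hn h3 => ?_, fun g => ?_⟩
    · have hcard : Nat.card Q = 6 := by
        rw [Nat.card_congr e.toEquiv, Nat.card_perm, Nat.card_fin]
        rfl
      have hle : Nat.card H ∣ 2 := by
        refine ((Nat.prime_three.coprime_iff_not_dvd.2 h3).symm).dvd_of_dvd_mul_right ?_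
        have := card_subgroup_dvd_card H
        rwa [hcard] at this
      rw [eq_bot_iff_forall]
      intro h hh
      by_contra hne
      have hsq : ∀ k ∈ H, k * k = 1 := fun k hk => by
        rw [← pow_two, ← orderOf_dvd_iff_pow_eq_one]
        exact (Subgroup.orderOf_dvd_natCard H hk).trans hle
      have hconj : y * h * y⁻¹ = h := by
        by_contra hne'
        have hk : y * h * y⁻¹ ∈ H := (mem_normalizer_iff.1 hn h).1 hh
        have h1 : y * h * y⁻¹ ≠ 1 := fun e => hne (conj_eq_one_iff.1 e)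
        have : ({1, h, y * h * y⁻¹} : Finset Q) ⊆ (Set.toFinite (H : Set Q)).toFinset := by
          intro k hk'
          simp only [Finset.mem_insert, Finset.mem_singleton] at hk'
          rw [Set.Finite.mem_toFinset, SetLike.mem_coe]
          rcases hk' with rfl | rfl | rfl
          exacts [one_mem _, hh, hk]
        have hc := Finset.card_le_card this
        have h3' : ({1, h, y * h * y⁻¹} : Finset Q).card = 3 :=
          Finset.card_eq_three.2 ⟨1, h, _, Ne.symm hne, Ne.symm h1, Ne.symm hne', rfl⟩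
        rw [h3', ← Set.ncard_eq_toFinset_card, ← Nat.card_coe_set_eq] at hc
        have := Nat.le_of_dvd two_pos hle
        exact absurd (hc.trans this) (by norm_num)
      refine hne (e.injective ?_)
      rw [map_one]
      refine ((perm_three_centralizer (e h) ?_ (e y) he).resolve_left he1).resolve_left
        (fun hn => hn ?_)
      · rw [← map_mul, hsq h hh, map_one]
      · rw [← map_mul, ← map_mul, ← mul_inv_eq_iff_eq_mul.1 hconj]
    · rcases (perm_three_normalizes (e g) (e y) he).resolve_left he1 with h | h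
      · exact Or.inl (e.injective (by simpa using h))
      · exact Or.inr (e.injective (by simpa using h))

end Quotient

variable {G : Type*} [Group G] [Finite G] {x : G}

/-- The image of an element of order three in a quotient by a `3'`-subgroup. -/
theorem Setup.map_ne_one (hx : Setup x) {Q : Type*} [Group Q] (π : G →* Q)
    (hk : ¬ 3 ∣ Nat.card π.ker) : π x * π x * π x = 1 ∧ π x ≠ 1 := by
  refine ⟨by rw [← map_mul, ← map_mul, hx.cube, map_one], fun h => ?_⟩
  exact hk (hx.order ▸ Subgroup.orderOf_dvd_natCard π.ker (MonoidHom.mem_ker.2 h))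

/-- An element that centralizes `x` modulo an invariant normal subgroup is a product of an element
of it and a power of `x`. -/
theorem Setup.exists_mul_of_map (hx : Setup x) {Q : Type*} [Group Q] (π : G →* Q)
    (hk : ¬ 3 ∣ Nat.card π.ker) {g : G} :
    (π g * π x * (π g)⁻¹ = π x → ∃ n ∈ π.ker, ∃ k, k * x * k⁻¹ = x ∧ g = n * k) ∧
    (π g * π x * (π g)⁻¹ = (π x)⁻¹ → ∃ n ∈ π.ker, ∃ k, k * x * k⁻¹ = x⁻¹ ∧ g = n * k) := by
  have key : ∀ z, Setup z → π g * π x * (π g)⁻¹ = π z → ∃ n ∈ π.ker, ∃ k, k * x * k⁻¹ = z ∧ g = n * k := by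
    intro z hz h
    have hr : g * x * g⁻¹ * z⁻¹ ∈ π.ker := by
      rw [MonoidHom.mem_ker, map_mul, map_mul, map_mul, map_inv, map_inv, h, mul_inv_cancel]
    obtain ⟨a, ha, hae⟩ := (SInv.of_normal hk z).exists_conj_mul hz hr
    refine ⟨a⁻¹, inv_mem ha, a * g, ?_, by group⟩
    calc a * g * x * (a * g)⁻¹ = a * (g * x * g⁻¹ * z⁻¹ * z) * a⁻¹ := by group
      _ = z := by rw [hae]; group
  exact ⟨key x hx, fun h => key x⁻¹ hx.inv (by rwa [map_inv])⟩

/-- The image of `x` in the quotient by a `3'`-subgroup is self-centralizing. -/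
theorem Setup.map (hx : Setup x) {Q : Type*} [Group Q] (π : G →* Q) (hπ : Function.Surjective π)
    (hk : ¬ 3 ∣ Nat.card π.ker) : Setup (π x) := by
  obtain ⟨h3, h1⟩ := hx.map_ne_one π hk
  haveI : Fact (Nat.Prime 3) := ⟨Nat.prime_three⟩
  refine ⟨orderOf_eq_prime (by rw [pow_succ, pow_two, h3]) h1, fun q hq => ?_⟩
  obtain ⟨g, rfl⟩ := hπ q
  obtain ⟨n, hn, k, hk', rfl⟩ := (hx.exists_mul_of_map π hk).1 (mul_inv_eq_iff_eq_mul.2 hq)
  obtain ⟨i, hi⟩ := mem_zpowers_iff.1 (hx.cent k (mul_inv_eq_iff_eq_mul.1 hk'))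
  rw [map_mul, MonoidHom.mem_ker.1 hn, one_mul, ← hi, map_zpow]
  exact mem_zpowers_iff.2 ⟨i, rfl⟩

end CfsgLib.Recog.SelfCentThree
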